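import Mathlib
import Cfsg.Prelude.Def_OddOrderLocal
import Cfsg.Prelude.Def_HallClasses

set_option autoImplicit false

/-!
Shared definitions for the classification of Hall subgroups of the symmetric and alternating
groups (P. Hall 1956, Thompson 1966), statements S2534, S2535, S2536, S2538.
-/

namespace Cfsg.Agent.Helper30.HallSym

/-- every prime up to `d` lies in `π` -/
def AllIn (π : Set ℕ) (d : ℕ) : Prop := ∀ r : ℕ, r.Prime → r ≤ d → r ∈ π

/-- at most one prime up to `d` lies in `π` -/
def AtMostOne (π : Set ℕ) (d : ℕ) : Prop :=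
  ∀ r s : ℕ, r.Prime → s.Prime → r ∈ π → s ∈ π → r ≤ d → s ≤ d → r = s

/-- the primes up to `d` lying in `π` are exactly `2` and `3` (those of them that are `≤ d`) -/
def TwoThree (π : Set ℕ) (d : ℕ) : Prop :=
  ∀ r : ℕ, r.Prime → r ≤ d → (r ∈ π ↔ (r = 2 ∨ r = 3))

/-- the degrees that admit a transitive Hall `π`-subgroup of the symmetric group -/
def Good (π : Set ℕ) (d : ℕ) : Prop :=
  AllIn π d ∨ AtMostOne π d ∨ (d = 8 ∧ TwoThree π 8)

end Cfsg.Agent.Helper30.HallSym
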