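import Mathlib
import Cfsg.Agent.Helper30.HallSym.Defs
import Cfsg.Agent.Helper73.HallSymA1
import Cfsg.Agent.Helper35.HallSymA2
import Cfsg.Agent.Helper89.HallSymA3
import Cfsg.Agent.Helper89.HallSymA4
import Cfsg.Agent.Helper74.HallSymA5
import Cfsg.Agent.Helper74.HallSymA9
import Cfsg.Agent.Helper50.HallSymA8
import Cfsg.Agent.Helper93.HallSymA6
import Cfsg.Agent.Helper93.HallSymA7

/-!
# The alternating-side pieces of the Hall classification, under one namespace

Every statement here is proved in a file of another seat (board post 6463); this file only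
collects them with the signatures the assembly uses.
-/

set_option autoImplicit false

open Equiv Equiv.Perm MulAction Subgroup Cfsg Cfsg.Agent.Helper30.HallSym
open scoped Nat Pointwise

namespace Cfsg.Agent.Helper30.HallSym.PcA

universe u

theorem alt_valuation_eq_of_invariant {α : Type u} [Fintype α] [DecidableEq α] {ι : Type}
    [Fintype ι] [DecidableEq ι] {π : Set ℕ} (M : Subgroup (Perm α))
    (hM : IsPiHallOf π M (alternatingGroup α)) (f : α → ι)
    (hf : ∀ g ∈ M, ∀ x, f (g x) = f x) (hfib : ∃ x y : α, x ≠ y ∧ f x = f y)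
    (r : ℕ) (hr : r.Prime) (hrπ : r ∈ π) :
    padicValNat r (Fintype.card α)! = ∑ i, padicValNat r (Fintype.card {a // f a = i})! :=
  Cfsg.Agent.Helper73.HallSym.alt_valuation_eq_of_invariant M hM f hf hfib r hr hrπ

theorem alt_constituent_hall {α : Type u} [Fintype α] [DecidableEq α] {π : Set ℕ}
    (M : Subgroup (Perm α)) (hM : IsPiHallOf π M (alternatingGroup α)) (S : SubMulAction M α)
    (hS : ∃ x y : α, x ≠ y ∧ x ∉ S ∧ y ∉ S) :
    IsPiHall π (MulAction.toPermHom M S).range :=
  Cfsg.Agent.Helper35.HallSym.alt_constituent_hall M hM S hS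

theorem alt_constituent_alt {α : Type u} [Fintype α] [DecidableEq α] {π : Set ℕ}
    (M : Subgroup (Perm α)) (hM : IsPiHallOf π M (alternatingGroup α)) (S : SubMulAction M α)
    [Fintype S] (hS : ∀ x y : α, x ∉ S → y ∉ S → x = y) (hS2 : ∃ x y : α, x ≠ y ∧ x ∈ S ∧ y ∈ S) :
    IsPiHallOf π (MulAction.toPermHom M S).range (alternatingGroup S) :=
  Cfsg.Agent.Helper89.HallSym.alt_constituent_alt M hM S hS hS2

theorem alt_block_constituent {α : Type u} [Fintype α] [DecidableEq α] {π : Set ℕ}
    (M : Subgroup (Perm α)) (hM : IsPiHallOf π M (alternatingGroup α))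
    (htr : IsPretransitive M α) (B : Set α) (hB : IsBlock M B) (hB2 : 2 ≤ B.ncard)
    (hBd : B.ncard < Fintype.card α) :
    (∀ r : ℕ, r.Prime → r ∈ π →
      padicValNat r (Fintype.card α)! =
        (Fintype.card α / B.ncard) * padicValNat r (B.ncard)! +
          padicValNat r (Fintype.card α / B.ncard)!) ∧
    ∃ K : Subgroup (Perm B), IsPiHall π K ∧ IsPretransitive K B :=
  Cfsg.Agent.Helper89.HallSym.alt_block_constituent M hM htr B hB hB2 hBd

theorem alt_two_transitive_of_sylow_two {α : Type u} [Fintype α] [DecidableEq α]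
    (M : Subgroup (Perm α)) (hle : M ≤ alternatingGroup α) (hprim : IsPreprimitive M α)
    (hd : 5 ≤ Fintype.card α) (h2 : ¬ 2 ∣ M.relIndex (alternatingGroup α)) :
    IsMultiplyPretransitive M α 2 :=
  Cfsg.Agent.Helper74.HallSym.alt_two_transitive_of_sylow_two M hle hprim hd h2

theorem no_two_transitive_fermat {α : Type u} [Fintype α] [DecidableEq α]
    (M : Subgroup (Perm α)) (hle : M ≤ alternatingGroup α)
    (h2t : IsMultiplyPretransitive M α 2) (hd5 : 5 ≤ Fintype.card α)
    (hdp : (Fintype.card α).Prime)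
    (hcard : Nat.card M = 2 ^ (padicValNat 2 (Fintype.card α)! - 1) * Fintype.card α) :
    False :=
  Cfsg.Agent.Helper93.HallSym.no_two_transitive_fermat M hle h2t hd5 hdp hcard

theorem no_two_transitive_mersenne {α : Type u} [Fintype α] [DecidableEq α]
    (M : Subgroup (Perm α)) (hle : M ≤ alternatingGroup α)
    (h2t : IsMultiplyPretransitive M α 2) (hd5 : 5 ≤ Fintype.card α)
    (hdp : (Fintype.card α - 1).Prime)
    (hcard : Nat.card M = 2 ^ (padicValNat 2 (Fintype.card α)! - 1) * (Fintype.card α - 1)) :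
    False :=
  Cfsg.Agent.Helper93.HallSym.no_two_transitive_mersenne M hle h2t hd5 hdp hcard

theorem alt_primitive_hall_allIn {α : Type u} [Fintype α] [DecidableEq α] {π : Set ℕ}
    (M : Subgroup (Perm α)) (hM : IsPiHallOf π M (alternatingGroup α))
    (hprim : IsPreprimitive M α) (h2 : ¬ AtMostOne π (Fintype.card α)) :
    AllIn π (Fintype.card α) :=
  Cfsg.Agent.Helper50.HallSym.alt_primitive_hall_allIn_of M hM hprim h2
    (fun hd h => alt_two_transitive_of_sylow_two M hM.1 hprim hd h)
    (fun h2t hd hp hc => no_two_transitive_fermat M hM.1 h2t hd hp hc)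
    (fun h2t hd hp hc => no_two_transitive_mersenne M hM.1 h2t hd hp hc)

theorem isPiHall_iff_isPiHallOf_map {G : Type u} [Group G] {π : Set ℕ} (A : Subgroup G)
    (M : Subgroup A) : IsPiHall π M ↔ IsPiHallOf π (M.map A.subtype) A :=
  Cfsg.Agent.Helper74.HallSym.isPiHall_iff_isPiHallOf_map A M

theorem eq_inf_of_isPiHallOf_le {G : Type u} [Group G] [Finite G] {π : Set ℕ} {M X A : Subgroup G}
    (hM : IsPiHallOf π M A) (hX : ∀ p : ℕ, p.Prime → p ∣ Nat.card X → p ∈ π) (hle : M ≤ X) :
    M = X ⊓ A :=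
  Cfsg.Agent.Helper74.HallSym.eq_inf_of_isPiHallOf_le hM hX hle

end Cfsg.Agent.Helper30.HallSym.PcA
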