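import Mathlib
import Cfsg.Agent.Helper30.HallSym.Defs
import Cfsg.Agent.Helper97.HallSymNTA
import Cfsg.Agent.Helper50.HallSymNTB
import Cfsg.Agent.Helper49.HallSymNTC
import Cfsg.Agent.Helper49.HallSymNTD
import Cfsg.Agent.Helper33.HallSymGD
import Cfsg.Agent.Helper33.HallSymGC
import Cfsg.Agent.Helper37.HallSymGA1
import Cfsg.Agent.Helper37.HallSymGA2
import Cfsg.Agent.Helper87.HallSymGB
import Cfsg.Agent.Helper38.HallSymX1
import Cfsg.Agent.Helper38.HallSymX2
import Cfsg.Agent.Helper32.HallSymX3
import Cfsg.Agent.Helper32.HallSymX45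
import Cfsg.Agent.Helper50.HallSymX6

set_option autoImplicit false

/-!
The pieces of the classification of Hall subgroups of the symmetric groups, delivered by
helper97 (NT-A), helper50 (NT-B, X-6), helper49 (NT-C, NT-D), helper33 (G-C, G-D),
helper37 (G-A1, G-A2), helper87 (G-B), helper38 (X-1, X-2), helper32 (X-3, X-4, X-5),
collected under one namespace.
-/

namespace Cfsg.Agent.Helper30.HallSym.Pc

alias choose_coprime_small_primes := Cfsg.Agent.Helper97.HallSym.choose_coprime_small_primes
alias wreath_index_prime := Cfsg.Agent.Helper50.HallSym.wreath_index_prime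
alias imprimitive_numerics := Cfsg.Agent.Helper49.HallSym.imprimitive_numerics
alias intransitive_numerics := Cfsg.Agent.Helper49.HallSym.intransitive_numerics
alias exists_prime_cycle_mem := Cfsg.Agent.Helper33.HallSym.exists_prime_cycle_mem
alias primitive_hall_allIn := Cfsg.Agent.Helper33.HallSym.primitive_hall_allIn
alias valuation_eq_of_invariant := Cfsg.Agent.Helper37.HallSym.valuation_eq_of_invariant
alias constituent_hall := Cfsg.Agent.Helper37.HallSym.constituent_hall
alias block_constituent := Cfsg.Agent.Helper87.HallSym.block_constituent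
alias isPiHall_stabilizer_point := Cfsg.Agent.Helper38.HallSym.isPiHall_stabilizer_point
alias isPiHall_stabilizer_three := Cfsg.Agent.Helper38.HallSym.isPiHall_stabilizer_three
alias isPiHall_stabilizer_bipartition := Cfsg.Agent.Helper32.HallSym.isPiHall_stabilizer_bipartition
alias stabilizer_set_conj := Cfsg.Agent.Helper32.HallSym.stabilizer_set_conj
alias stabilizer_bipartition_conj := Cfsg.Agent.Helper32.HallSym.stabilizer_bipartition_conj
alias isPiHall_eq_of_le := Cfsg.Agent.Helper50.HallSym.isPiHall_eq_of_le
alias isPiHall_inf_normal := Cfsg.Agent.Helper50.HallSym.isPiHall_inf_normal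

end Cfsg.Agent.Helper30.HallSym.Pc
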