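import Mathlib
import Cfsg.Agent.Helper30.HallSym.Defs
import Cfsg.Agent.Helper30.HallSym.Pieces

set_option autoImplicit false

open Equiv Equiv.Perm MulAction Subgroup Cfsg
open scoped Nat Pointwise

namespace Cfsg.Agent.Helper30.HallSym
open Pc

universe u

theorem padicValNat_three_eight : padicValNat 3 (2 * 4)! = 2 := by
  have : Fact (Nat.Prime 3) := ⟨by norm_num⟩
  rw [padicValNat_factorial (p := 3) (n := 2 * 4) (b := 3) (by norm_num [Nat.log])]
  decide

theorem padicValNat_three_four : padicValNat 3 4! = 1 := by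
  have : Fact (Nat.Prime 3) := ⟨by norm_num⟩
  rw [padicValNat_factorial (p := 3) (n := 4) (b := 3) (by norm_num [Nat.log])]
  decide

theorem padicValNat_three_two : padicValNat 3 2! = 0 := by
  have : Fact (Nat.Prime 3) := ⟨by norm_num⟩
  rw [padicValNat_factorial (p := 3) (n := 2) (b := 3) (by norm_num [Nat.log])]
  decide

/-- The imprimitive case, relative to an induction hypothesis. -/
theorem imprimitive_block {π : Set ℕ} {d : ℕ}
    (ih : ∀ m < d, ∀ {β : Type u} [Fintype β] [DecidableEq β] (K : Subgroup (Perm β)),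
      Fintype.card β = m → IsPiHall π K → IsPretransitive K β → Good π m)
    {α : Type u} [Fintype α] [DecidableEq α] (H : Subgroup (Perm α)) (hd : Fintype.card α = d)
    (hH : IsPiHall π H) (htr : IsPretransitive H α) (h2 : ¬ AtMostOne π d)
    (hprim : ¬ IsPreprimitive H α) :
    ∃ B : Set α, IsBlock H B ∧ B.ncard = 4 ∧ d = 8 ∧ TwoThree π 8 := by
  have hex : ∃ B : Set α, IsBlock H B ∧ ¬ IsTrivialBlock B := by
    by_contra hcon
    push Not at hcon
    exact hprim { toIsPretransitive := htr, isTrivialBlock_of_isBlock := fun {B} hB => hcon B hB }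
  obtain ⟨B, hB, hBnt⟩ := hex
  have hBne : B.Nonempty := by
    by_contra hne
    rw [Set.not_nonempty_iff_eq_empty] at hne
    exact hBnt (Or.inl (by rw [hne]; exact Set.subsingleton_empty))
  obtain ⟨hval, K, hK, hKtr⟩ := block_constituent H hH htr B hB hBne
  have hdvd : B.ncard ∣ Nat.card α := hB.ncard_dvd_card hBne
  rw [Nat.card_eq_fintype_card, hd] at hdvd
  have ha2 : 2 ≤ B.ncard := by
    by_contra hlt
    push Not at hlt
    apply hBnt
    left
    exact Set.ncard_le_one_iff_subsingleton.mp (by omega)
  have hdpos : 0 < d := by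
    rw [← hd]; exact Fintype.card_pos_iff.mpr ⟨hBne.some⟩
  have hlt : B.ncard < d := by
    have hle : B.ncard ≤ d := Nat.le_of_dvd hdpos hdvd
    rcases hle.lt_or_eq with h | h
    · exact h
    · exfalso
      apply hBnt
      right
      rw [Set.eq_univ_iff_ncard, h, ← hd, Nat.card_eq_fintype_card]
  obtain ⟨b, hb⟩ := hdvd
  have hb2 : 2 ≤ b := by
    by_contra hlt2
    push Not at hlt2
    interval_cases b <;> omega
  have hdiv : d / B.ncard = b := by
    rw [hb]; exact Nat.mul_div_cancel_left b (by omega)
  have : Fintype B := Fintype.ofFinite B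
  have hcardB : Fintype.card B = B.ncard := by
    rw [← Nat.card_eq_fintype_card]; exact Nat.card_coe_set_eq B
  have hgoodB : Good π B.ncard := ih B.ncard hlt K hcardB hK hKtr
  have hval' : ∀ r : ℕ, r.Prime → r ∈ π →
      padicValNat r (B.ncard * b)! = b * padicValNat r (B.ncard)! + padicValNat r b ! := by
    intro r hr hrπ
    have := hval r hr hrπ
    rw [hd, hdiv] at this
    rw [← hb]; exact this
  have h2' : ¬ AtMostOne π (B.ncard * b) := by rw [← hb]; exact h2
  obtain ⟨h8, h23⟩ := imprimitive_numerics ha2 hb2 hgoodB hval' h2'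
  refine ⟨B, hB, ?_, by rw [hb]; exact h8, h23⟩
  -- `B.ncard = 4`
  have h3π : (3 : ℕ) ∈ π := (h23 3 (by norm_num) (by norm_num)).mpr (Or.inr rfl)
  by_contra hne4
  have hab : B.ncard = 2 ∧ b = 4 := by
    have hle8 : B.ncard ≤ 8 := by nlinarith
    have hble8 : b ≤ 8 := by nlinarith
    clear hval hval' hgoodB hK hKtr h2' hcardB
    generalize B.ncard = a at *
    interval_cases a <;> interval_cases b <;> omega
  have h3 := hval' 3 (by norm_num) h3π
  rw [hab.1, hab.2, padicValNat_three_eight, padicValNat_three_two, padicValNat_three_four] at h3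
  omega

/-- A transitive Hall `π`-subgroup of a symmetric group of degree `d` forces `Good π d`. -/
theorem transitive_hall_good {π : Set ℕ} : ∀ (d : ℕ) {α : Type u} [Fintype α] [DecidableEq α]
    (H : Subgroup (Perm α)), Fintype.card α = d → IsPiHall π H → IsPretransitive H α →
    Good π d := by
  intro d
  induction d using Nat.strong_induction_on with
  | _ d ih =>
    intro α _ _ H hd hH htr
    by_cases h2 : AtMostOne π d
    · exact Or.inr (Or.inl h2)
    by_cases hprim : IsPreprimitive H α
    · left
      have := primitive_hall_allIn H hH hprim (by rw [hd]; exact h2)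
      rwa [hd] at this
    obtain ⟨B, -, -, h8, h23⟩ := imprimitive_block (fun m hm β _ _ K => ih m hm K) H hd hH htr h2 hprim
    exact Or.inr (Or.inr ⟨h8, h23⟩)

/-- The imprimitive case, unconditionally. -/
theorem imprimitive_block' {π : Set ℕ} {α : Type u} [Fintype α] [DecidableEq α]
    (H : Subgroup (Perm α)) (hH : IsPiHall π H) (htr : IsPretransitive H α)
    (h2 : ¬ AtMostOne π (Fintype.card α)) (hprim : ¬ IsPreprimitive H α) :
    ∃ B : Set α, IsBlock H B ∧ B.ncard = 4 ∧ Fintype.card α = 8 ∧ TwoThree π 8 :=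
  imprimitive_block (fun m _ _ _ _ K hm hK hKtr => transitive_hall_good m K hm hK hKtr) H rfl hH htr
    h2 hprim

end Cfsg.Agent.Helper30.HallSym
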