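import Mathlib
import Cfsg.Agent.Helper30.HallSym.Defs
import Cfsg.Agent.Helper30.HallSym.Trans
import Cfsg.Agent.Helper30.HallSym.PiecesA

set_option autoImplicit false

open Equiv Equiv.Perm MulAction Subgroup Cfsg
open scoped Nat Pointwise

namespace Cfsg.Agent.Helper30.HallSym
open Pc PcA

universe u

/-- The block analysis shared by the symmetric and the alternating case. -/
theorem block_numerics {π : Set ℕ} {α : Type u} [Fintype α] [DecidableEq α]
    (H : Subgroup (Perm α)) (htr : IsPretransitive H α)
    (h2 : ¬ AtMostOne π (Fintype.card α)) (hprim : ¬ IsPreprimitive H α)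
    (hbc : ∀ B : Set α, IsBlock H B → 2 ≤ B.ncard → B.ncard < Fintype.card α →
      (∀ r : ℕ, r.Prime → r ∈ π →
        padicValNat r (Fintype.card α)! =
          (Fintype.card α / B.ncard) * padicValNat r (B.ncard)! +
            padicValNat r (Fintype.card α / B.ncard)!) ∧
      ∃ K : Subgroup (Perm B), IsPiHall π K ∧ IsPretransitive K B) :
    ∃ B : Set α, IsBlock H B ∧ B.ncard = 4 ∧ Fintype.card α = 8 ∧ TwoThree π 8 := by
  have hex : ∃ B : Set α, IsBlock H B ∧ ¬ IsTrivialBlock B := by
    by_contra hcon
    push Not at hcon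
    exact hprim { toIsPretransitive := htr, isTrivialBlock_of_isBlock := fun {B} hB => hcon B hB }
  obtain ⟨B, hB, hBnt⟩ := hex
  have hBne : B.Nonempty := by
    by_contra hne
    rw [Set.not_nonempty_iff_eq_empty] at hne
    exact hBnt (Or.inl (by rw [hne]; exact Set.subsingleton_empty))
  have hdvd : B.ncard ∣ Nat.card α := hB.ncard_dvd_card hBne
  rw [Nat.card_eq_fintype_card] at hdvd
  have ha2 : 2 ≤ B.ncard := by
    by_contra hlt
    push Not at hlt
    apply hBnt
    left
    exact Set.ncard_le_one_iff_subsingleton.mp (by omega)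
  have hdpos : 0 < Fintype.card α := Fintype.card_pos_iff.mpr ⟨hBne.some⟩
  have hlt : B.ncard < Fintype.card α := by
    have hle : B.ncard ≤ Fintype.card α := Nat.le_of_dvd hdpos hdvd
    rcases hle.lt_or_eq with h | h
    · exact h
    · exfalso
      apply hBnt
      right
      rw [Set.eq_univ_iff_ncard, h, Nat.card_eq_fintype_card]
  obtain ⟨hval, K, hK, hKtr⟩ := hbc B hB ha2 hlt
  obtain ⟨b, hb⟩ := hdvd
  have hb2 : 2 ≤ b := by
    by_contra hlt2
    push Not at hlt2
    interval_cases b <;> omega
  have hdiv : Fintype.card α / B.ncard = b := by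
    rw [hb]; exact Nat.mul_div_cancel_left b (by omega)
  have : Fintype B := Fintype.ofFinite B
  have hcardB : Fintype.card B = B.ncard := by
    rw [← Nat.card_eq_fintype_card]; exact Nat.card_coe_set_eq B
  have hgoodB : Good π B.ncard := transitive_hall_good B.ncard K hcardB hK hKtr
  have hval' : ∀ r : ℕ, r.Prime → r ∈ π →
      padicValNat r (B.ncard * b)! = b * padicValNat r (B.ncard)! + padicValNat r b ! := by
    intro r hr hrπ
    have := hval r hr hrπ
    rw [hdiv] at this
    rw [← hb]; exact this
  have h2' : ¬ AtMostOne π (B.ncard * b) := by rw [← hb]; exact h2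
  obtain ⟨h8, h23⟩ := imprimitive_numerics ha2 hb2 hgoodB hval' h2'
  refine ⟨B, hB, ?_, by rw [hb]; exact h8, h23⟩
  have h3π : (3 : ℕ) ∈ π := (h23 3 (by norm_num) (by norm_num)).mpr (Or.inr rfl)
  by_contra hne4
  have hab : B.ncard = 2 ∧ b = 4 := by
    have hle8 : B.ncard ≤ 8 := by nlinarith
    have hble8 : b ≤ 8 := by nlinarith
    clear hval hval' hgoodB hK hKtr h2' hcardB hdiv hb hlt
    generalize B.ncard = a at *
    interval_cases a <;> interval_cases b <;> omega
  have h3 := hval' 3 (by norm_num) h3π
  rw [hab.1, hab.2, padicValNat_three_eight, padicValNat_three_two, padicValNat_three_four] at h3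
  omega

/-- A transitive Hall `π`-subgroup of an alternating group. -/
theorem alt_transitive_hall {π : Set ℕ} {α : Type u} [Fintype α] [DecidableEq α]
    (M : Subgroup (Perm α)) (hM : IsPiHallOf π M (alternatingGroup α))
    (htr : IsPretransitive M α) (h2 : ¬ AtMostOne π (Fintype.card α)) :
    AllIn π (Fintype.card α) ∨
      ∃ B : Set α, IsBlock M B ∧ B.ncard = 4 ∧ Fintype.card α = 8 ∧ TwoThree π 8 := by
  by_cases hprim : IsPreprimitive M α
  · exact Or.inl (alt_primitive_hall_allIn M hM hprim h2)
  · right
    exact block_numerics M htr h2 hprim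
      (fun B hB hB2 hBd => alt_block_constituent M hM htr B hB hB2 hBd)

end Cfsg.Agent.Helper30.HallSym
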