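import Mathlib

set_option autoImplicit false

open scoped Nat

namespace Cfsg.Agent.Helper30.HallSym

/-- three-part multinomial coprimality gives binomial coprimality -/
theorem not_dvd_choose_of_val_eq {r m j k : ℕ} (hr : r.Prime)
    (h : padicValNat r (m + j + k)! = padicValNat r m ! + padicValNat r j ! + padicValNat r k !) :
    ¬ r ∣ Nat.choose (m + j) j := by
  have : Fact r.Prime := ⟨hr⟩
  have h1 : (m + j + k)! = (m + j + k).choose k * (m + j)! * k ! :=
    (Nat.add_choose_mul_factorial_mul_factorial (m + j) k).symm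
  have h2 : (m + j)! = (m + j).choose j * m ! * j ! :=
    (Nat.add_choose_mul_factorial_mul_factorial m j).symm
  have hc1 : (m + j + k).choose k ≠ 0 := (Nat.choose_pos (Nat.le_add_left _ _)).ne'
  have hc2 : (m + j).choose j ≠ 0 := (Nat.choose_pos (Nat.le_add_left _ _)).ne'
  have hm := Nat.factorial_ne_zero m
  have hj := Nat.factorial_ne_zero j
  have hk := Nat.factorial_ne_zero k
  have hmj := Nat.factorial_ne_zero (m + j)
  rw [h1, padicValNat.mul (mul_ne_zero hc1 hmj) hk, padicValNat.mul hc1 hmj, h2,
    padicValNat.mul (mul_ne_zero hc2 hm) hj, padicValNat.mul hc2 hm] at h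
  have h0 : padicValNat r ((m + j).choose j) = 0 := by omega
  intro hdvd
  have := (dvd_iff_padicValNat_ne_zero hc2).mp hdvd
  exact this h0

/-- four-part multinomial coprimality gives binomial coprimality for the third part -/
theorem not_dvd_choose_of_val_eq4 {r m j k l : ℕ} (hr : r.Prime)
    (h : padicValNat r (m + j + k + l)! =
      padicValNat r m ! + padicValNat r j ! + padicValNat r k ! + padicValNat r l !) :
    ¬ r ∣ Nat.choose (m + j + k) k := by
  have : Fact r.Prime := ⟨hr⟩
  have h1 : (m + j + k + l)! = (m + j + k + l).choose l * (m + j + k)! * l ! :=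
    (Nat.add_choose_mul_factorial_mul_factorial (m + j + k) l).symm
  have h2 : (m + j + k)! = (m + j + k).choose k * (m + j)! * k ! :=
    (Nat.add_choose_mul_factorial_mul_factorial (m + j) k).symm
  have h3 : (m + j)! = (m + j).choose j * m ! * j ! :=
    (Nat.add_choose_mul_factorial_mul_factorial m j).symm
  have hc1 : (m + j + k + l).choose l ≠ 0 := (Nat.choose_pos (Nat.le_add_left _ _)).ne'
  have hc2 : (m + j + k).choose k ≠ 0 := (Nat.choose_pos (Nat.le_add_left _ _)).ne'
  have hc3 : (m + j).choose j ≠ 0 := (Nat.choose_pos (Nat.le_add_left _ _)).ne'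
  have hm := Nat.factorial_ne_zero m
  have hj := Nat.factorial_ne_zero j
  have hk := Nat.factorial_ne_zero k
  have hl := Nat.factorial_ne_zero l
  have hmj := Nat.factorial_ne_zero (m + j)
  have hmjk := Nat.factorial_ne_zero (m + j + k)
  rw [h1, padicValNat.mul (mul_ne_zero hc1 hmjk) hl, padicValNat.mul hc1 hmjk, h2,
    padicValNat.mul (mul_ne_zero hc2 hmj) hk, padicValNat.mul hc2 hmj, h3,
    padicValNat.mul (mul_ne_zero hc3 hm) hj, padicValNat.mul hc3 hm] at h
  have h0 : padicValNat r ((m + j + k).choose k) = 0 := by omega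
  intro hdvd
  exact (dvd_iff_padicValNat_ne_zero hc2).mp hdvd h0

end Cfsg.Agent.Helper30.HallSym
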