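import Mathlib
import Cfsg.Agent.Helper30.HallSym.Defs
import Cfsg.Agent.Helper30.HallSym.Arith
import Cfsg.Agent.Helper30.HallSym.Trans

set_option autoImplicit false
set_option linter.unusedSectionVars false

open Equiv Equiv.Perm MulAction Subgroup Cfsg
open scoped Nat Pointwise

namespace Cfsg.Agent.Helper30.HallSym
open Pc

universe u

section orbits

variable {α : Type u} [Fintype α] [DecidableEq α] (H : Subgroup (Perm α))

/-- the orbit of `a` as a `SubMulAction` -/
def orbitSub (a : α) : SubMulAction H α where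
  carrier := orbit H a
  smul_mem' g _ hx := mem_orbit_of_mem_orbit g hx

omit [Fintype α] [DecidableEq α] in
theorem mem_orbitSub {a x : α} : x ∈ orbitSub H a ↔ x ∈ orbit H a := Iff.rfl

omit [Fintype α] [DecidableEq α] in
theorem isPretransitive_range_orbitSub (a : α) :
    IsPretransitive (MulAction.toPermHom H (orbitSub H a)).range (orbitSub H a) := by
  constructor
  rintro ⟨x, hx⟩ ⟨y, hy⟩
  obtain ⟨g, rfl⟩ := (mem_orbit_iff).mp hx
  obtain ⟨h, rfl⟩ := (mem_orbit_iff).mp hy
  refine ⟨⟨MulAction.toPermHom H (orbitSub H a) (h * g⁻¹), ⟨_, rfl⟩⟩, ?_⟩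
  apply Subtype.ext
  change ((h * g⁻¹) • (⟨g • a, hx⟩ : orbitSub H a) : orbitSub H a).1 = h • a
  rw [SubMulAction.val_smul]
  simp [mul_smul]

theorem good_orbit {π : Set ℕ} (hH : IsPiHall π H) (a : α) : Good π (orbit H a).ncard := by
  have hK := constituent_hall H hH (orbitSub H a)
  have htr := isPretransitive_range_orbitSub H a
  have : Fintype (orbitSub H a) := Fintype.ofFinite _
  refine transitive_hall_good (orbit H a).ncard (MulAction.toPermHom H (orbitSub H a)).range ?_ hK
    htr
  rw [← Nat.card_eq_fintype_card]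
  exact Nat.card_coe_set_eq (orbit H a)

/-- a prime cycle in `H` lies in one orbit -/
theorem prime_le_orbit_ncard {c : Perm α} (hc : c ∈ H) (hcyc : c.IsCycle) :
    ∃ x : α, c.support.card ≤ (orbit H x).ncard := by
  obtain ⟨x, hx, hall⟩ := hcyc
  refine ⟨x, ?_⟩
  have hsub : (c.support : Set α) ⊆ orbit H x := by
    intro y hy
    have hy' : c y ≠ y := by simpa using hy
    obtain ⟨k, hk⟩ := hall hy'
    refine ⟨⟨c, hc⟩ ^ k, ?_⟩
    change ((⟨c, hc⟩ ^ k : H) : Perm α) x = y
    rw [SubgroupClass.coe_zpow]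
    exact hk
  have := Set.ncard_le_ncard hsub (Set.toFinite _)
  rwa [Set.ncard_coe_finset] at this

end orbits

end Cfsg.Agent.Helper30.HallSym

namespace Cfsg.Agent.Helper30.HallSym
open Pc

universe u

section main

variable {α : Type u} [Fintype α] [DecidableEq α] (H : Subgroup (Perm α)) {π : Set ℕ}

/-- every prime of `π` up to the degree is at most the size of some orbit -/
theorem exists_orbit_ge (hH : IsPiHall π H) {r : ℕ} (hr : r.Prime) (hrπ : r ∈ π)
    (hrd : r ≤ Fintype.card α) : ∃ x : α, r ≤ (orbit H x).ncard := by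
  have : Fact r.Prime := ⟨hr⟩
  obtain ⟨c, hc, hcyc, hcard⟩ := exists_prime_cycle_mem hrd H (hH.2 r hr hrπ)
  obtain ⟨x, hx⟩ := prime_le_orbit_ncard H hc hcyc
  exact ⟨x, hcard ▸ hx⟩

omit [Fintype α] [DecidableEq α] in
theorem apply_mem_orbit_iff (g : Perm α) (hg : g ∈ H) (x c : α) :
    g x ∈ orbit H c ↔ x ∈ orbit H c := by
  have : g x = (⟨g, hg⟩ : H) • x := rfl
  rw [this, ← orbit_eq_iff, ← orbit_eq_iff, orbit_smul]

open Classical in
/-- the classifying function of three pieces -/
noncomputable def f3 (a b : α) (x : α) : Fin 3 :=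
  if x ∈ orbit H a then 0 else if x ∈ orbit H b then 1 else 2

omit [Fintype α] [DecidableEq α] in
theorem f3_inv (a b : α) (g : Perm α) (hg : g ∈ H) (x : α) : f3 H a b (g x) = f3 H a b x := by
  have h := apply_mem_orbit_iff H g hg x
  unfold f3
  by_cases ha : x ∈ orbit H a
  · rw [if_pos ha, if_pos ((h a).mpr ha)]
  · rw [if_neg ha, if_neg (mt (h a).mp ha)]
    by_cases hb : x ∈ orbit H b
    · rw [if_pos hb, if_pos ((h b).mpr hb)]
    · rw [if_neg hb, if_neg (mt (h b).mp hb)]

open Classical in
/-- the classifying function of four pieces -/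
noncomputable def f4 (a b c : α) (x : α) : Fin 4 :=
  if x ∈ orbit H a then 0 else if x ∈ orbit H b then 1 else if x ∈ orbit H c then 2 else 3

omit [Fintype α] [DecidableEq α] in
theorem f4_inv (a b c : α) (g : Perm α) (hg : g ∈ H) (x : α) :
    f4 H a b c (g x) = f4 H a b c x := by
  have h := apply_mem_orbit_iff H g hg x
  unfold f4
  by_cases ha : x ∈ orbit H a
  · rw [if_pos ha, if_pos ((h a).mpr ha)]
  · rw [if_neg ha, if_neg (mt (h a).mp ha)]
    by_cases hb : x ∈ orbit H b
    · rw [if_pos hb, if_pos ((h b).mpr hb)]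
    · rw [if_neg hb, if_neg (mt (h b).mp hb)]
      by_cases hc : x ∈ orbit H c
      · rw [if_pos hc, if_pos ((h c).mpr hc)]
      · rw [if_neg hc, if_neg (mt (h c).mp hc)]

omit [Fintype α] [DecidableEq α] in
theorem orbit_disjoint {a b : α} (hb : b ∉ orbit H a) : Disjoint (orbit H a) (orbit H b) := by
  rw [Set.disjoint_left]
  intro x hxa hxb
  apply hb
  rw [← orbit_eq_iff] at hxa hxb ⊢
  rw [← hxb, hxa]

end main

end Cfsg.Agent.Helper30.HallSym

namespace Cfsg.Agent.Helper30.HallSym
open Pc

universe u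

section fibres

variable {α : Type u} [Fintype α] [DecidableEq α] (H : Subgroup (Perm α)) {π : Set ℕ}

theorem card_eq_sum_fibres {ι : Type} [Fintype ι] [DecidableEq ι] (f : α → ι) :
    Fintype.card α = ∑ i, Fintype.card {a // f a = i} := by
  rw [← Fintype.card_sigma]
  exact Fintype.card_congr (Equiv.sigmaFiberEquiv f).symm

theorem card_fibre_eq_ncard {ι : Type} [DecidableEq ι] (f : α → ι) (i : ι) (s : Set α)
    (h : ∀ x, f x = i ↔ x ∈ s) : Fintype.card {a // f a = i} = s.ncard := by
  rw [← Nat.card_eq_fintype_card, ← Nat.card_coe_set_eq]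
  exact Nat.card_congr (Equiv.subtypeEquivRight h)

theorem f3_eq_zero (a b x : α) : f3 H a b x = 0 ↔ x ∈ orbit H a := by
  unfold f3
  by_cases ha : x ∈ orbit H a
  · simp [ha]
  · by_cases hb : x ∈ orbit H b <;> simp [ha, hb]

theorem f3_eq_one {a b : α} (hb : b ∉ orbit H a) (x : α) : f3 H a b x = 1 ↔ x ∈ orbit H b := by
  unfold f3
  by_cases ha : x ∈ orbit H a
  · have : x ∉ orbit H b := fun hxb => (Set.disjoint_left.mp (orbit_disjoint H hb)) ha hxb
    simp [ha, this]
  · by_cases hxb : x ∈ orbit H b <;> simp [ha, hxb]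

theorem f4_eq_zero (a b c x : α) : f4 H a b c x = 0 ↔ x ∈ orbit H a := by
  unfold f4
  by_cases ha : x ∈ orbit H a
  · simp [ha]
  · by_cases hb : x ∈ orbit H b
    · simp [ha, hb]
    · by_cases hc : x ∈ orbit H c <;> simp [ha, hb, hc]

theorem f4_eq_one {a b : α} (c : α) (hb : b ∉ orbit H a) (x : α) :
    f4 H a b c x = 1 ↔ x ∈ orbit H b := by
  unfold f4
  by_cases ha : x ∈ orbit H a
  · have : x ∉ orbit H b := fun hxb => (Set.disjoint_left.mp (orbit_disjoint H hb)) ha hxb
    simp [ha, this]
  · by_cases hxb : x ∈ orbit H b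
    · simp [ha, hxb]
    · by_cases hc : x ∈ orbit H c <;> simp [ha, hxb, hc]

theorem f4_eq_two {a b c : α} (hca : c ∉ orbit H a) (hcb : c ∉ orbit H b) (x : α) :
    f4 H a b c x = 2 ↔ x ∈ orbit H c := by
  unfold f4
  by_cases ha : x ∈ orbit H a
  · have : x ∉ orbit H c := fun hxc => (Set.disjoint_left.mp (orbit_disjoint H hca)) ha hxc
    simp [ha, this]
  · by_cases hxb : x ∈ orbit H b
    · have : x ∉ orbit H c := fun hxc => (Set.disjoint_left.mp (orbit_disjoint H hcb)) hxb hxc
      simp [ha, hxb, this]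
    · by_cases hc : x ∈ orbit H c <;> simp [ha, hxb, hc]

end fibres

end Cfsg.Agent.Helper30.HallSym

namespace Cfsg.Agent.Helper30.HallSym
open Pc

universe u

section valuations

variable {α : Type u} [Fintype α] [DecidableEq α] (H : Subgroup (Perm α)) {π : Set ℕ}

theorem val_three (hH : IsPiHall π H) {a b : α} (hb : b ∉ orbit H a) {r : ℕ} (hr : r.Prime)
    (hrπ : r ∈ π) : ∃ k : ℕ,
      Fintype.card α = (orbit H a).ncard + (orbit H b).ncard + k ∧
      padicValNat r ((orbit H a).ncard + (orbit H b).ncard + k)! =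
        padicValNat r ((orbit H a).ncard)! + padicValNat r ((orbit H b).ncard)! +
          padicValNat r k ! := by
  have h1 := valuation_eq_of_invariant H hH (f3 H a b) (f3_inv H a b) r hr hrπ
  have h2 := card_eq_sum_fibres (f3 H a b)
  rw [Fin.sum_univ_three] at h1 h2
  rw [card_fibre_eq_ncard (f3 H a b) 0 _ (f3_eq_zero H a b),
    card_fibre_eq_ncard (f3 H a b) 1 _ (f3_eq_one H hb)] at h1 h2
  refine ⟨Fintype.card {x // f3 H a b x = 2}, h2, ?_⟩
  rw [← h2]; exact h1

theorem val_four (hH : IsPiHall π H) {a b c : α} (hb : b ∉ orbit H a) (hca : c ∉ orbit H a)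
    (hcb : c ∉ orbit H b) {r : ℕ} (hr : r.Prime) (hrπ : r ∈ π) : ∃ k : ℕ,
      Fintype.card α = (orbit H a).ncard + (orbit H b).ncard + (orbit H c).ncard + k ∧
      padicValNat r ((orbit H a).ncard + (orbit H b).ncard + (orbit H c).ncard + k)! =
        padicValNat r ((orbit H a).ncard)! + padicValNat r ((orbit H b).ncard)! +
          padicValNat r ((orbit H c).ncard)! + padicValNat r k ! := by
  have h1 := valuation_eq_of_invariant H hH (f4 H a b c) (f4_inv H a b c) r hr hrπ
  have h2 := card_eq_sum_fibres (f4 H a b c)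
  rw [Fin.sum_univ_four] at h1 h2
  rw [card_fibre_eq_ncard (f4 H a b c) 0 _ (f4_eq_zero H a b c),
    card_fibre_eq_ncard (f4 H a b c) 1 _ (f4_eq_one H c hb),
    card_fibre_eq_ncard (f4 H a b c) 2 _ (f4_eq_two H hca hcb)] at h1 h2
  refine ⟨Fintype.card {x // f4 H a b c x = 3}, h2, ?_⟩
  rw [← h2]; exact h1

end valuations

end Cfsg.Agent.Helper30.HallSym

namespace Cfsg.Agent.Helper30.HallSym
open Pc

universe u

section classification

variable {α : Type u} [Fintype α] [DecidableEq α] (H : Subgroup (Perm α)) {π : Set ℕ}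

omit [Fintype α] [DecidableEq α] in
theorem smul_orbit_eq (g : Perm α) (hg : g ∈ H) (b : α) :
    g • (orbit H b : Set α) = orbit H b := by
  ext x
  rw [Set.mem_smul_set_iff_inv_smul_mem]
  exact apply_mem_orbit_iff H g⁻¹ (H.inv_mem hg) x b

theorem even_of_prime_succ {m : ℕ} (hm : 3 ≤ m) (hp : (m + 1).Prime) : 2 ∣ m + 2 := by
  have hodd : Odd (m + 1) := hp.odd_of_ne_two (by omega)
  obtain ⟨k, hk⟩ := hodd
  exact ⟨k + 1, by omega⟩

/-- numerical exclusion of a third orbit -/
theorem no_third {m j k : ℕ}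
    (hj : (j = 1 ∧ (m + 1).Prime ∧ 3 ≤ m) ∨ (m = 4 ∧ j = 3))
    (hk : (k = 1 ∧ (m + 1).Prime ∧ 3 ≤ m) ∨ (m = 4 ∧ k = 3)) :
    2 ∣ Nat.choose (m + j + k) k := by
  rcases hj with ⟨rfl, hp, hm⟩ | ⟨rfl, rfl⟩ <;> rcases hk with ⟨rfl, hp', hm'⟩ | ⟨hm4, rfl⟩
  · rw [Nat.choose_one_right]
    exact even_of_prime_succ hm hp
  · subst hm4; decide
  · decide
  · decide

theorem hall_classification (hH : IsPiHall π H) (h2 : ¬ AtMostOne π (Fintype.card α))
    (hns : ¬ AllIn π (Fintype.card α)) :
    ((Fintype.card α).Prime ∧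
        (∀ r : ℕ, r.Prime → r ≤ Fintype.card α → (r ∈ π ↔ r < Fintype.card α)) ∧
        ∃ a : α, H = stabilizer (Perm α) a) ∨
      (Fintype.card α = 7 ∧ TwoThree π 7 ∧
        ∃ s : Set α, s.ncard = 3 ∧ H = stabilizer (Perm α) s) ∨
      (Fintype.card α = 8 ∧ TwoThree π 8 ∧
        ∃ s : Set α, s.ncard = 4 ∧ H = stabilizer (Perm α) ({s, sᶜ} : Set (Set α))) := by
  by_cases htr : IsPretransitive H α
  · -- transitive case
    right; right
    have hprim : ¬ IsPreprimitive H α := fun hp => hns (primitive_hall_allIn H hH hp h2)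
    obtain ⟨B, hB, hB4, h8, h23⟩ := imprimitive_block' H hH htr h2 hprim
    refine ⟨h8, h23, B, hB4, ?_⟩
    apply isPiHall_eq_of_le hH (isPiHall_stabilizer_bipartition h8 h23 B hB4)
    intro g hg
    rw [mem_stabilizer_iff]
    have hBc : Bᶜ.ncard = 4 := by
      have := Set.ncard_add_ncard_compl B
      rw [Nat.card_eq_fintype_card, h8, hB4] at this
      omega
    have hgB : g • B = B ∨ g • B = Bᶜ := by
      have := hB.smul_eq_or_disjoint (⟨g, hg⟩ : H)
      rcases this with h | h
      · left; exact h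
      · right
        have hsub : g • B ⊆ Bᶜ := by
          intro x hx
          exact fun hxB => (Set.disjoint_left.mp h) hx hxB
        apply Set.eq_of_subset_of_ncard_le hsub _ (Set.toFinite _)
        rw [hBc]
        have : (g • B).ncard = B.ncard := Set.ncard_smul_set g B
        omega
    have hcompl : g • Bᶜ = (g • B)ᶜ := Set.smul_set_compl
    rw [Set.smul_set_insert, Set.smul_set_singleton, hcompl]
    rcases hgB with h | h
    · rw [h]
    · rw [h, compl_compl, Set.pair_comm]
  · -- intransitive case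
    have hd3 : 3 ≤ Fintype.card α := by
      by_contra hlt
      apply h2
      intro r s hr hs _ _ hrd hsd
      have := hr.two_le
      have := hs.two_le
      omega
    have : Nonempty α := Fintype.card_pos_iff.mp (by omega)
    -- an orbit of maximal size
    obtain ⟨a, -, hmax⟩ := Finset.exists_max_image Finset.univ (fun x : α => (orbit H x).ncard)
      Finset.univ_nonempty
    have hmax' : ∀ x, (orbit H x).ncard ≤ (orbit H a).ncard := fun x => hmax x (Finset.mem_univ x)
    set m := (orbit H a).ncard with hm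
    have hle : ∀ r : ℕ, r.Prime → r ∈ π → r ≤ Fintype.card α → r ≤ m := by
      intro r hr hrπ hrd
      obtain ⟨x, hx⟩ := exists_orbit_ge H hH hr hrπ hrd
      exact hx.trans (hmax' x)
    have h2m : ¬ AtMostOne π m := by
      intro hcon
      apply h2
      intro r s hr hs hrπ hsπ hrd hsd
      exact hcon r s hr hs hrπ hsπ (hle r hr hrπ hrd) (hle s hs hsπ hsd)
    have hgm : Good π m := good_orbit H hH a
    -- a second orbit
    have hex : ∃ b : α, b ∉ orbit H a := by
      by_contra hcon
      push Not at hcon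
      apply htr
      constructor
      intro x y
      have hx := hcon x
      have hy := hcon y
      rw [← orbit_eq_iff] at hx hy
      have : y ∈ orbit H x := by rw [hx, ← hy]; exact mem_orbit_self y
      exact this
    -- analysis of any second orbit
    have hsecond : ∀ b : α, b ∉ orbit H a →
        ((orbit H b).ncard = 1 ∧ (m + 1).Prime ∧ AllIn π m) ∨
          (m = 4 ∧ (orbit H b).ncard = 3 ∧ TwoThree π 4) := by
      intro b hb
      have hj1 : 1 ≤ (orbit H b).ncard :=
        (Set.ncard_pos (Set.toFinite _)).mpr ⟨b, mem_orbit_self b⟩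
      apply intransitive_numerics hj1 (hmax' b) hgm (good_orbit H hH b) h2m
      intro r hr hrπ
      obtain ⟨k, -, hk⟩ := val_three H hH hb hr hrπ
      exact not_dvd_choose_of_val_eq hr hk
    have hm3 : ∀ b : α, b ∉ orbit H a → (orbit H b).ncard = 1 → AllIn π m → 3 ≤ m := by
      intro b _ _ hall
      by_contra hlt
      apply h2m
      intro r s hr hs _ _ hrd hsd
      have := hr.two_le
      have := hs.two_le
      omega
    have h2π : (2 : ℕ) ∈ π := by
      obtain ⟨b, hb⟩ := hex
      rcases hsecond b hb with ⟨h1, _, hall⟩ | ⟨_, _, h23⟩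
      · exact hall 2 Nat.prime_two (by have := hm3 b hb h1 hall; omega)
      · exact (h23 2 Nat.prime_two (by norm_num)).mpr (Or.inl rfl)
    -- no third orbit
    have hthird : ∀ b c : α, b ∉ orbit H a → c ∉ orbit H a → c ∈ orbit H b := by
      intro b c hb hc
      by_contra hcb
      obtain ⟨k, -, hk⟩ := val_four H hH hb hc hcb Nat.prime_two h2π
      have hnd := not_dvd_choose_of_val_eq4 Nat.prime_two hk
      apply hnd
      apply no_third
      · rcases hsecond b hb with ⟨h1, hp, hall⟩ | ⟨h4, h3, _⟩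
        · exact Or.inl ⟨h1, hp, hm3 b hb h1 hall⟩
        · exact Or.inr ⟨h4, h3⟩
      · rcases hsecond c hc with ⟨h1, hp, hall⟩ | ⟨h4, h3, _⟩
        · exact Or.inl ⟨h1, hp, hm3 c hc h1 hall⟩
        · exact Or.inr ⟨h4, h3⟩
    obtain ⟨b, hb⟩ := hex
    -- the degree is m + j
    have hunion : (orbit H a ∪ orbit H b : Set α) = Set.univ := by
      rw [Set.eq_univ_iff_forall]
      intro x
      by_cases hx : x ∈ orbit H a
      · exact Or.inl hx
      · right
        have := hthird b x hb hx
        exact this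
    have hcard : Fintype.card α = m + (orbit H b).ncard := by
      have h1 := Set.ncard_union_eq (orbit_disjoint H hb) (Set.toFinite _) (Set.toFinite _)
      rw [hunion, Set.ncard_univ, Nat.card_eq_fintype_card] at h1
      exact h1
    rcases hsecond b hb with ⟨h1, hp, hall⟩ | ⟨h4, h3, h23⟩
    · -- point stabilizer
      left
      rw [h1] at hcard
      have hiff : ∀ r : ℕ, r.Prime → r ≤ Fintype.card α → (r ∈ π ↔ r < Fintype.card α) := by
        intro r hr hrd
        constructor
        · intro hrπ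
          have := hle r hr hrπ hrd
          omega
        · intro hlt
          exact hall r hr (by omega)
      refine ⟨by rw [hcard]; exact hp, hiff, b, ?_⟩
      apply isPiHall_eq_of_le hH (isPiHall_stabilizer_point (by rw [hcard]; exact hp) hiff b)
      intro g hg
      rw [mem_stabilizer_iff]
      have hsub : (orbit H b).Subsingleton := Set.ncard_le_one_iff_subsingleton.mp (by omega)
      have hgb : g • b ∈ orbit H b := ⟨⟨g, hg⟩, rfl⟩
      exact hsub hgb (mem_orbit_self b)
    · -- stabilizer of a 3-set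
      right; left
      rw [h4, h3] at hcard
      have h237 : TwoThree π 7 := by
        intro r hr hr7
        constructor
        · intro hrπ
          have hr4 : r ≤ 4 := by
            have := hle r hr hrπ (by omega)
            omega
          exact (h23 r hr hr4).mp hrπ
        · rintro (rfl | rfl)
          · exact (h23 2 hr (by norm_num)).mpr (Or.inl rfl)
          · exact (h23 3 hr (by norm_num)).mpr (Or.inr rfl)
      refine ⟨hcard, h237, orbit H b, h3, ?_⟩
      apply isPiHall_eq_of_le hH (isPiHall_stabilizer_three hcard h237 (orbit H b) h3)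
      intro g hg
      rw [mem_stabilizer_iff]
      exact smul_orbit_eq H g hg b

end classification

end Cfsg.Agent.Helper30.HallSym
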