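import Mathlib
import Cfsg.Agent.Helper30.HallSym.Defs
import Cfsg.Agent.Helper30.HallSym.Class
import Cfsg.Agent.Helper30.HallSym.AltTrans

set_option autoImplicit false
set_option linter.unusedSectionVars false

open Equiv Equiv.Perm MulAction Subgroup Cfsg
open scoped Nat Pointwise

namespace Cfsg.Agent.Helper30.HallSym
open Pc PcA

universe u

section general

variable {α : Type u} [Fintype α] [DecidableEq α]

theorem alternatingGroup_index_dvd_two : (alternatingGroup α).index ∣ 2 := by
  by_cases hnt : Nontrivial α
  · rw [alternatingGroup.index_eq_two]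
  · rw [not_nontrivial_iff_subsingleton] at hnt
    have : (alternatingGroup α) = ⊤ := by
      rw [eq_top_iff]
      intro g _
      have : g = 1 := Subsingleton.elim _ _
      rw [this]; exact Subgroup.one_mem _
    rw [this, Subgroup.index_top]
    exact one_dvd 2

/-- primes of `π` other than `2` do not divide the index in `Perm α` of a Hall subgroup of `A`. -/
theorem not_dvd_index_of_isPiHallOf {π : Set ℕ} {M : Subgroup (Perm α)}
    (hM : IsPiHallOf π M (alternatingGroup α)) {r : ℕ} (hr : r.Prime) (hrπ : r ∈ π)
    (hr2 : r ≠ 2) : ¬ r ∣ M.index := by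
  rw [← Subgroup.relIndex_mul_index hM.1]
  intro h
  rcases hr.dvd_mul.mp h with h | h
  · exact hM.2.2 r hr hrπ h
  · have := h.trans alternatingGroup_index_dvd_two
    exact hr2 ((Nat.prime_dvd_prime_iff_eq hr Nat.prime_two).mp this)

theorem le_stabilizer_bipartition (H : Subgroup (Perm α)) {B : Set α} (hB : IsBlock H B)
    (hB4 : B.ncard = 4) (h8 : Fintype.card α = 8) :
    H ≤ stabilizer (Perm α) ({B, Bᶜ} : Set (Set α)) := by
  intro g hg
  rw [mem_stabilizer_iff]
  have hBc : Bᶜ.ncard = 4 := by
    have := Set.ncard_add_ncard_compl B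
    rw [Nat.card_eq_fintype_card, h8, hB4] at this
    omega
  have hgB : g • B = B ∨ g • B = Bᶜ := by
    have := hB.smul_eq_or_disjoint (⟨g, hg⟩ : H)
    rcases this with h | h
    · left; exact h
    · right
      have hsub : g • B ⊆ Bᶜ := by
        intro x hx
        exact fun hxB => (Set.disjoint_left.mp h) hx hxB
      apply Set.eq_of_subset_of_ncard_le hsub _ (Set.toFinite _)
      rw [hBc]
      have : (g • B).ncard = B.ncard := Set.ncard_smul_set g B
      omega
  have hcompl : g • Bᶜ = (g • B)ᶜ := Set.smul_set_compl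
  rw [Set.smul_set_insert, Set.smul_set_singleton, hcompl]
  rcases hgB with h | h
  · rw [h]
  · rw [h, compl_compl, Set.pair_comm]

end general

end Cfsg.Agent.Helper30.HallSym

namespace Cfsg.Agent.Helper30.HallSym
open Pc PcA

universe u

section altorbits

variable {α : Type u} [Fintype α] [DecidableEq α] (M : Subgroup (Perm α)) {π : Set ℕ}

theorem alt_good_orbit (hM : IsPiHallOf π M (alternatingGroup α)) (a : α)
    (hS : ∃ x y : α, x ≠ y ∧ x ∉ orbit M a ∧ y ∉ orbit M a) : Good π (orbit M a).ncard := by
  have hK := alt_constituent_hall M hM (orbitSub M a) hS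
  have htr := isPretransitive_range_orbitSub M a
  have : Fintype (orbitSub M a) := Fintype.ofFinite _
  refine transitive_hall_good (orbit M a).ncard (MulAction.toPermHom M (orbitSub M a)).range ?_ hK
    htr
  rw [← Nat.card_eq_fintype_card]
  exact Nat.card_coe_set_eq (orbit M a)

theorem alt_exists_orbit_ge (hM : IsPiHallOf π M (alternatingGroup α)) {r : ℕ} (hr : r.Prime)
    (hrπ : r ∈ π) (hr2 : r ≠ 2) (hrd : r ≤ Fintype.card α) :
    ∃ x : α, r ≤ (orbit M x).ncard := by
  have : Fact r.Prime := ⟨hr⟩
  obtain ⟨c, hc, hcyc, hcard⟩ :=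
    exists_prime_cycle_mem hrd M (not_dvd_index_of_isPiHallOf hM hr hrπ hr2)
  obtain ⟨x, hx⟩ := prime_le_orbit_ncard M hc hcyc
  exact ⟨x, hcard ▸ hx⟩

theorem alt_val_three (hM : IsPiHallOf π M (alternatingGroup α)) {a b : α}
    (hb : b ∉ orbit M a) (ha2 : 2 ≤ (orbit M a).ncard) {r : ℕ} (hr : r.Prime)
    (hrπ : r ∈ π) : ∃ k : ℕ,
      Fintype.card α = (orbit M a).ncard + (orbit M b).ncard + k ∧
      padicValNat r ((orbit M a).ncard + (orbit M b).ncard + k)! =
        padicValNat r ((orbit M a).ncard)! + padicValNat r ((orbit M b).ncard)! +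
          padicValNat r k ! := by
  have hfib : ∃ x y : α, x ≠ y ∧ f3 M a b x = f3 M a b y := by
    obtain ⟨x, hx, y, hy, hxy⟩ := (Set.one_lt_ncard (Set.toFinite _)).mp (by omega : 1 < (orbit M a).ncard)
    exact ⟨x, y, hxy, by rw [(f3_eq_zero M a b x).mpr hx, (f3_eq_zero M a b y).mpr hy]⟩
  have h1 := alt_valuation_eq_of_invariant M hM (f3 M a b) (f3_inv M a b) hfib r hr hrπ
  have h2 := card_eq_sum_fibres (f3 M a b)
  rw [Fin.sum_univ_three] at h1 h2
  rw [card_fibre_eq_ncard (f3 M a b) 0 _ (f3_eq_zero M a b),
    card_fibre_eq_ncard (f3 M a b) 1 _ (f3_eq_one M hb)] at h1 h2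
  refine ⟨Fintype.card {x // f3 M a b x = 2}, h2, ?_⟩
  rw [← h2]; exact h1

theorem alt_val_four (hM : IsPiHallOf π M (alternatingGroup α)) {a b c : α}
    (hb : b ∉ orbit M a) (hca : c ∉ orbit M a) (hcb : c ∉ orbit M b)
    (ha2 : 2 ≤ (orbit M a).ncard) {r : ℕ} (hr : r.Prime) (hrπ : r ∈ π) : ∃ k : ℕ,
      Fintype.card α = (orbit M a).ncard + (orbit M b).ncard + (orbit M c).ncard + k ∧
      padicValNat r ((orbit M a).ncard + (orbit M b).ncard + (orbit M c).ncard + k)! =
        padicValNat r ((orbit M a).ncard)! + padicValNat r ((orbit M b).ncard)! +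
          padicValNat r ((orbit M c).ncard)! + padicValNat r k ! := by
  have hfib : ∃ x y : α, x ≠ y ∧ f4 M a b c x = f4 M a b c y := by
    obtain ⟨x, hx, y, hy, hxy⟩ := (Set.one_lt_ncard (Set.toFinite _)).mp (by omega : 1 < (orbit M a).ncard)
    exact ⟨x, y, hxy, by rw [(f4_eq_zero M a b c x).mpr hx, (f4_eq_zero M a b c y).mpr hy]⟩
  have h1 := alt_valuation_eq_of_invariant M hM (f4 M a b c) (f4_inv M a b c) hfib r hr hrπ
  have h2 := card_eq_sum_fibres (f4 M a b c)
  rw [Fin.sum_univ_four] at h1 h2
  rw [card_fibre_eq_ncard (f4 M a b c) 0 _ (f4_eq_zero M a b c),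
    card_fibre_eq_ncard (f4 M a b c) 1 _ (f4_eq_one M c hb),
    card_fibre_eq_ncard (f4 M a b c) 2 _ (f4_eq_two M hca hcb)] at h1 h2
  refine ⟨Fintype.card {x // f4 M a b c x = 3}, h2, ?_⟩
  rw [← h2]; exact h1

end altorbits

end Cfsg.Agent.Helper30.HallSym

namespace Cfsg.Agent.Helper30.HallSym
open Pc PcA

universe u

section altmain

variable {α : Type u} [Fintype α] [DecidableEq α] (M : Subgroup (Perm α)) {π : Set ℕ}

theorem prime_succ_of_allIn {m : ℕ} (hm : 1 ≤ m) (hall : AllIn π m)
    (h : ∀ r : ℕ, r.Prime → r ∈ π → ¬ r ∣ m + 1) : (m + 1).Prime := by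
  have hne : m + 1 ≠ 1 := by omega
  have hp := Nat.minFac_prime hne
  have hd := Nat.minFac_dvd (m + 1)
  have hle : (m + 1).minFac ≤ m + 1 := Nat.minFac_le (by omega)
  rcases hle.lt_or_eq with hlt | heq
  · exact absurd hd (h _ hp (hall _ hp (by omega)))
  · rw [← heq]; exact hp

/-- The main case: a Hall subgroup of the alternating group lies in a Hall subgroup of the
symmetric group. -/
theorem alt_hall_main (hM : IsPiHallOf π M (alternatingGroup α)) (h2π : (2 : ℕ) ∈ π)
    (h2 : ¬ AtMostOne π (Fintype.card α)) (hns : ¬ AllIn π (Fintype.card α)) :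
    ∃ X : Subgroup (Perm α), IsPiHall π X ∧ M ≤ X := by
  by_cases htr : IsPretransitive M α
  · rcases alt_transitive_hall M hM htr h2 with hall | ⟨B, hB, hB4, h8, h23⟩
    · exact absurd hall hns
    · exact ⟨_, isPiHall_stabilizer_bipartition h8 h23 B hB4, le_stabilizer_bipartition M hB hB4 h8⟩
  · -- an odd prime of `π`
    have hodd : ∃ r : ℕ, r.Prime ∧ r ∈ π ∧ r ≠ 2 ∧ r ≤ Fintype.card α := by
      by_contra hcon
      push Not at hcon
      apply h2
      intro r s hr hs hrπ hsπ hrd hsd
      have h1 : r = 2 := by
        by_contra hne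
        exact absurd hrd (not_le.mpr (hcon r hr hrπ hne))
      have h2' : s = 2 := by
        by_contra hne
        exact absurd hsd (not_le.mpr (hcon s hs hsπ hne))
      rw [h1, h2']
    obtain ⟨r0, hr0, hr0π, hr02, hr0d⟩ := hodd
    have hr03 : 3 ≤ r0 := by
      have := hr0.two_le
      omega
    have : Nonempty α := Fintype.card_pos_iff.mp (by omega)
    obtain ⟨a, -, hmax⟩ := Finset.exists_max_image Finset.univ (fun x : α => (orbit M x).ncard)
      Finset.univ_nonempty
    have hmax' : ∀ x, (orbit M x).ncard ≤ (orbit M a).ncard := fun x => hmax x (Finset.mem_univ x)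
    set m := (orbit M a).ncard with hm
    have hm3 : 3 ≤ m := by
      obtain ⟨x, hx⟩ := alt_exists_orbit_ge M hM hr0 hr0π hr02 hr0d
      exact hr03.trans (hx.trans (hmax' x))
    have hle : ∀ r : ℕ, r.Prime → r ∈ π → r ≤ Fintype.card α → r ≤ m := by
      intro r hr hrπ hrd
      by_cases hr2 : r = 2
      · omega
      · obtain ⟨x, hx⟩ := alt_exists_orbit_ge M hM hr hrπ hr2 hrd
        exact hx.trans (hmax' x)
    have h2m : ¬ AtMostOne π m := by
      intro hcon
      apply h2
      intro r s hr hs hrπ hsπ hrd hsd
      exact hcon r s hr hs hrπ hsπ (hle r hr hrπ hrd) (hle s hs hsπ hsd)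
    have hex : ∃ b : α, b ∉ orbit M a := by
      by_contra hcon
      push Not at hcon
      apply htr
      constructor
      intro x y
      have hx := hcon x
      have hy := hcon y
      rw [← orbit_eq_iff] at hx hy
      have : y ∈ orbit M x := by rw [hx, ← hy]; exact mem_orbit_self y
      exact this
    -- two points of the big orbit
    obtain ⟨a1, ha1, a2, ha2, ha12⟩ :=
      (Set.one_lt_ncard (Set.toFinite _)).mp (by omega : 1 < (orbit M a).ncard)
    have houtside : ∀ c : α, c ∉ orbit M a → a1 ∉ orbit M c ∧ a2 ∉ orbit M c := by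
      intro c hc
      have hdis := orbit_disjoint M hc
      exact ⟨fun h => Set.disjoint_left.mp hdis ha1 h, fun h => Set.disjoint_left.mp hdis ha2 h⟩
    have hgood_small : ∀ c : α, c ∉ orbit M a → Good π (orbit M c).ncard := by
      intro c hc
      exact alt_good_orbit M hM c ⟨a1, a2, ha12, (houtside c hc).1, (houtside c hc).2⟩
    have hcop : ∀ c : α, c ∉ orbit M a → ∀ r : ℕ, r.Prime → r ∈ π →
        ¬ r ∣ Nat.choose (m + (orbit M c).ncard) (orbit M c).ncard := by
      intro c hc r hr hrπ
      obtain ⟨k, -, hk⟩ := alt_val_three M hM hc (by omega) hr hrπ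
      exact not_dvd_choose_of_val_eq hr hk
    have hpos : ∀ c : α, 1 ≤ (orbit M c).ncard := fun c =>
      (Set.ncard_pos (Set.toFinite _)).mpr ⟨c, mem_orbit_self c⟩
    by_cases hbig : ∃ b : α, b ∉ orbit M a ∧ 2 ≤ (orbit M b).ncard
    · -- two nontrivial orbits
      obtain ⟨b, hb, hb2⟩ := hbig
      obtain ⟨b1, hb1, b2, hb2', hb12⟩ :=
        (Set.one_lt_ncard (Set.toFinite _)).mp (by omega : 1 < (orbit M b).ncard)
      have hdis := orbit_disjoint M hb
      have hgm : Good π m := alt_good_orbit M hM a
        ⟨b1, b2, hb12, fun h => Set.disjoint_left.mp hdis h hb1,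
          fun h => Set.disjoint_left.mp hdis h hb2'⟩
      have hsecond : ∀ c : α, c ∉ orbit M a →
          ((orbit M c).ncard = 1 ∧ (m + 1).Prime ∧ AllIn π m) ∨
            (m = 4 ∧ (orbit M c).ncard = 3 ∧ TwoThree π 4) := fun c hc =>
        intransitive_numerics (hpos c) (hmax' c) hgm (hgood_small c hc) h2m (hcop c hc)
      have hthird : ∀ c : α, c ∉ orbit M a → c ∈ orbit M b := by
        intro c hc
        by_contra hcb
        obtain ⟨k, -, hk⟩ := alt_val_four M hM hb hc hcb (by omega) Nat.prime_two h2π
        have hnd := not_dvd_choose_of_val_eq4 Nat.prime_two hk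
        apply hnd
        apply no_third
        · rcases hsecond b hb with ⟨h1, hp, _⟩ | ⟨h4, h3, _⟩
          · exact Or.inl ⟨h1, hp, hm3⟩
          · exact Or.inr ⟨h4, h3⟩
        · rcases hsecond c hc with ⟨h1, hp, _⟩ | ⟨h4, h3, _⟩
          · exact Or.inl ⟨h1, hp, hm3⟩
          · exact Or.inr ⟨h4, h3⟩
      have hunion : (orbit M a ∪ orbit M b : Set α) = Set.univ := by
        rw [Set.eq_univ_iff_forall]
        intro x
        by_cases hx : x ∈ orbit M a
        · exact Or.inl hx
        · exact Or.inr (hthird x hx)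
      have hcard : Fintype.card α = m + (orbit M b).ncard := by
        have h1 := Set.ncard_union_eq hdis (Set.toFinite _) (Set.toFinite _)
        rw [hunion, Set.ncard_univ, Nat.card_eq_fintype_card] at h1
        exact h1
      rcases hsecond b hb with ⟨h1, _, _⟩ | ⟨h4, h3, h23⟩
      · omega
      · rw [h4, h3] at hcard
        have h237 : TwoThree π 7 := by
          intro r hr hr7
          constructor
          · intro hrπ
            have hr4 : r ≤ 4 := by
              have := hle r hr hrπ (by omega)
              omega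
            exact (h23 r hr hr4).mp hrπ
          · rintro (rfl | rfl)
            · exact (h23 2 hr (by norm_num)).mpr (Or.inl rfl)
            · exact (h23 3 hr (by norm_num)).mpr (Or.inr rfl)
        refine ⟨_, isPiHall_stabilizer_three hcard h237 (orbit M b) h3, ?_⟩
        intro g hg
        rw [mem_stabilizer_iff]
        exact smul_orbit_eq M g hg b
    · -- all other orbits are fixed points
      push Not at hbig
      have hfix : ∀ c : α, c ∉ orbit M a → (orbit M c).ncard = 1 := by
        intro c hc
        have := hbig c hc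
        have := hpos c
        omega
      obtain ⟨b, hb⟩ := hex
      -- `b` is the only point outside
      have honly : ∀ c : α, c ∉ orbit M a → c = b := by
        intro c hc
        by_contra hcb
        have hcb' : c ∉ orbit M b := by
          intro h
          have hsub : (orbit M b).Subsingleton :=
            Set.ncard_le_one_iff_subsingleton.mp (by rw [hfix b hb])
          exact hcb (hsub h (mem_orbit_self b))
        obtain ⟨k, -, hk⟩ := alt_val_four M hM hb hc hcb' (by omega) Nat.prime_two h2π
        have hnd := not_dvd_choose_of_val_eq4 Nat.prime_two hk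
        have hnd' := hcop b hb 2 Nat.prime_two h2π
        rw [hfix b hb, hfix c hc, Nat.choose_one_right] at hnd
        rw [hfix b hb, Nat.choose_one_right] at hnd'
        omega
      have hcard : Fintype.card α = m + 1 := by
        have hunion : (orbit M a ∪ {b} : Set α) = Set.univ := by
          rw [Set.eq_univ_iff_forall]
          intro x
          by_cases hx : x ∈ orbit M a
          · exact Or.inl hx
          · exact Or.inr (honly x hx)
        have hdis : Disjoint (orbit M a) ({b} : Set α) := by
          rw [Set.disjoint_singleton_right]; exact hb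
        have h1 := Set.ncard_union_eq hdis (Set.toFinite _) (Set.toFinite _)
        rw [hunion, Set.ncard_univ, Nat.card_eq_fintype_card, Set.ncard_singleton] at h1
        exact h1
      -- the constituent on the big orbit
      have : Fintype (orbitSub M a) := Fintype.ofFinite _
      have hcardS : Fintype.card (orbitSub M a) = m := by
        rw [← Nat.card_eq_fintype_card]
        exact Nat.card_coe_set_eq (orbit M a)
      have hR := alt_constituent_alt M hM (orbitSub M a)
        (fun x y hx hy => (honly x hx).trans (honly y hy).symm) ⟨a1, a2, ha12, ha1, ha2⟩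
      have hRtr := isPretransitive_range_orbitSub M a
      have hcases := alt_transitive_hall (MulAction.toPermHom M (orbitSub M a)).range hR hRtr
        (by rw [hcardS]; exact h2m)
      rw [hcardS] at hcases
      have hnd : ∀ r : ℕ, r.Prime → r ∈ π → ¬ r ∣ m + 1 := by
        intro r hr hrπ
        have := hcop b hb r hr hrπ
        rwa [hfix b hb, Nat.choose_one_right] at this
      rcases hcases with hall | ⟨B, -, -, h8, h23⟩
      · have hp : (m + 1).Prime := prime_succ_of_allIn (by omega) hall hnd
        have hiff : ∀ r : ℕ, r.Prime → r ≤ Fintype.card α → (r ∈ π ↔ r < Fintype.card α) := by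
          intro r hr hrd
          constructor
          · intro hrπ
            have := hle r hr hrπ hrd
            omega
          · intro hlt
            exact hall r hr (by omega)
        refine ⟨_, isPiHall_stabilizer_point (by rw [hcard]; exact hp) hiff b, ?_⟩
        intro g hg
        rw [mem_stabilizer_iff]
        have hsub : (orbit M b).Subsingleton :=
          Set.ncard_le_one_iff_subsingleton.mp (by rw [hfix b hb])
        have hgb : g • b ∈ orbit M b := ⟨⟨g, hg⟩, rfl⟩
        exact hsub hgb (mem_orbit_self b)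
      · exfalso
        have h3π : (3 : ℕ) ∈ π := (h23 3 (by norm_num) (by norm_num)).mpr (Or.inr rfl)
        have := hnd 3 (by norm_num) h3π
        rw [h8] at this
        exact this (by norm_num)

end altmain

end Cfsg.Agent.Helper30.HallSym
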