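import Mathlib
import Cfsg.Agent.Helper30.HallSym.Defs

/-!
# General conjugacy lemmas for Hall subgroups of a finite group
-/

set_option autoImplicit false

open Subgroup Cfsg
open scoped Pointwise

namespace Cfsg.Agent.Helper30.HallSym

universe u

section

variable {G : Type u} [Group G]

theorem map_conj_one (H : Subgroup G) : H.map (MulAut.conj (1 : G)).toMonoidHom = H := by
  ext x
  simp

theorem mem_map_conj_iff (H : Subgroup G) (g x : G) :
    x ∈ H.map (MulAut.conj g).toMonoidHom ↔ g⁻¹ * x * g ∈ H := by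
  constructor
  · rintro ⟨y, hy, rfl⟩
    simpa [mul_assoc] using hy
  · intro h
    exact ⟨g⁻¹ * x * g, h, by simp [mul_assoc]⟩

theorem map_conj_mul (H : Subgroup G) (g t : G) (ht : t ∈ H) :
    H.map (MulAut.conj (g * t)).toMonoidHom = H.map (MulAut.conj g).toMonoidHom := by
  ext x
  rw [mem_map_conj_iff, mem_map_conj_iff]
  have e : (g * t)⁻¹ * x * (g * t) = t⁻¹ * (g⁻¹ * x * g) * t := by group
  rw [e]
  constructor
  · intro h
    have := H.mul_mem (H.mul_mem ht h) (H.inv_mem ht)
    simpa [mul_assoc] using this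
  · intro h
    exact H.mul_mem (H.mul_mem (H.inv_mem ht) h) ht

/-- conjugation by an element of `A` commutes with restriction to `A` -/
theorem subgroupOf_map_conj (A H : Subgroup G) (g : G) (hg : g ∈ A) :
    (H.map (MulAut.conj g).toMonoidHom).subgroupOf A =
      (H.subgroupOf A).map (MulAut.conj (⟨g, hg⟩ : A)).toMonoidHom := by
  ext x
  rw [mem_subgroupOf, mem_map_conj_iff, mem_map_conj_iff, mem_subgroupOf]
  simp

variable [Finite G] {π : Set ℕ}

/-- two Hall subgroups that are `q`-groups, `q ∈ π`, are conjugate (Sylow) -/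
theorem hall_conj_of_isPGroup {q : ℕ} [Fact q.Prime] {H K : Subgroup G}
    (hH : IsPiHall π H) (hK : IsPiHall π K) (hqπ : q ∈ π) (hHq : IsPGroup q H)
    (hKq : IsPGroup q K) : ∃ g : G, K = H.map (MulAut.conj g).toMonoidHom := by
  have hq : q.Prime := Fact.out
  let P : Sylow q G := hHq.toSylow (hH.2 q hq hqπ)
  let Q : Sylow q G := hKq.toSylow (hK.2 q hq hqπ)
  obtain ⟨g, hg⟩ := MulAction.exists_smul_eq G P Q
  refine ⟨g, ?_⟩
  have h1 : ((g • P : Sylow q G) : Subgroup G) = (Q : Subgroup G) := by rw [hg]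
  rw [Sylow.coe_subgroup_smul] at h1
  have hP : (P : Subgroup G) = H := IsPGroup.toSylow_coe _ _
  have hQ : (Q : Subgroup G) = K := IsPGroup.toSylow_coe _ _
  rw [hP, hQ] at h1
  rw [← h1]
  rfl

/-- if at most one prime of `π` divides the order of `G`, its Hall `π`-subgroups are conjugate -/
theorem hall_conj_of_unique_prime {H K : Subgroup G}
    (h1 : ∀ r s : ℕ, r.Prime → s.Prime → r ∈ π → s ∈ π → r ∣ Nat.card G → s ∣ Nat.card G → r = s)
    (hH : IsPiHall π H) (hK : IsPiHall π K) :
    ∃ g : G, K = H.map (MulAut.conj g).toMonoidHom := by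
  by_cases hex : ∃ q : ℕ, q.Prime ∧ q ∈ π ∧ q ∣ Nat.card G
  · obtain ⟨q, hq, hqπ, hqd⟩ := hex
    have : Fact q.Prime := ⟨hq⟩
    have key : ∀ L : Subgroup G, IsPiHall π L → IsPGroup q L := by
      intro L hL
      have hpos : Nat.card L ≠ 0 := Nat.card_pos.ne'
      have := Nat.eq_prime_pow_of_unique_prime_dvd hpos (p := q) (fun {d} hd hdd =>
        h1 d q hd hq (hL.1 d hd hdd) hqπ (hdd.trans (Subgroup.card_subgroup_dvd_card L)) hqd)
      exact IsPGroup.of_card this
    exact hall_conj_of_isPGroup hH hK hqπ (key H hH) (key K hK)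
  · have key : ∀ L : Subgroup G, IsPiHall π L → L = ⊥ := by
      intro L hL
      rw [← Subgroup.card_eq_one]
      by_contra hne
      obtain ⟨p, hp, hpd⟩ := Nat.exists_prime_and_dvd hne
      exact hex ⟨p, hp, hL.1 p hp hpd, hpd.trans (Subgroup.card_subgroup_dvd_card L)⟩
    refine ⟨1, ?_⟩
    rw [key H hH, key K hK, Subgroup.map_bot]

end

end Cfsg.Agent.Helper30.HallSym
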