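import Mathlib
import Cfsg.Agent.Helper30.HallSym.Defs
import Cfsg.Agent.Helper30.HallSym.Class
import Cfsg.Agent.Helper30.HallSym.AltClass
import Cfsg.Agent.Helper30.HallSym.Conj

/-!
# Every Hall subgroup of the alternating group is cut out by one of the symmetric group
-/

set_option autoImplicit false
set_option linter.unusedSectionVars false

open Equiv Equiv.Perm MulAction Subgroup Cfsg
open scoped Nat Pointwise

namespace Cfsg.Agent.Helper30.HallSym
open Pc PcA

universe u

section

variable {α : Type u} [Fintype α] [DecidableEq α] {π : Set ℕ}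

theorem prime_le_of_dvd_card_perm {p : ℕ} (hp : p.Prime)
    (h : p ∣ Nat.card (Perm α)) : p ≤ Fintype.card α := by
  rw [Nat.card_eq_fintype_card, Fintype.card_perm] at h
  exact (hp.dvd_factorial).mp h

theorem prime_le_of_dvd_card_perm_subgroup (K : Subgroup (Perm α)) {p : ℕ} (hp : p.Prime)
    (h : p ∣ Nat.card K) : p ≤ Fintype.card α :=
  prime_le_of_dvd_card_perm hp (h.trans (Subgroup.card_subgroup_dvd_card K))

theorem prime_le_of_dvd_index_perm_subgroup (K : Subgroup (Perm α)) {p : ℕ} (hp : p.Prime)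
    (h : p ∣ K.index) : p ≤ Fintype.card α :=
  prime_le_of_dvd_card_perm hp (h.trans (Subgroup.index_dvd_card K))

/-- if every prime up to `card α` lies in `π` then the whole group is its own Hall subgroup -/
theorem isPiHall_top_of_allIn (hall : AllIn π (Fintype.card α)) :
    IsPiHall π (⊤ : Subgroup (Perm α)) := by
  refine ⟨fun p hp hpd => hall p hp (prime_le_of_dvd_card_perm_subgroup _ hp hpd), ?_⟩
  intro p hp _ hpd
  rw [Subgroup.index_top] at hpd
  exact hp.one_lt.ne' (Nat.dvd_one.mp hpd)

/-- if `q ≤ card α` is the only prime of `π` up to `card α`, the Sylow `q`-subgroups are Hall -/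
theorem isPiHall_sylow_of_atMostOne {q : ℕ} [Fact q.Prime] (hqπ : q ∈ π)
    (hqd : q ≤ Fintype.card α) (h1 : AtMostOne π (Fintype.card α)) (P : Sylow q (Perm α)) :
    IsPiHall π (P : Subgroup (Perm α)) := by
  have hq : q.Prime := Fact.out
  refine ⟨fun p hp hpd => ?_, fun p hp hpπ hpd => ?_⟩
  · obtain ⟨k, hk⟩ := IsPGroup.iff_card.mp P.isPGroup'
    rw [hk] at hpd
    have := (Nat.prime_dvd_prime_iff_eq hp hq).mp (hp.dvd_of_dvd_pow hpd)
    rw [this]; exact hqπ
  · have hple := prime_le_of_dvd_index_perm_subgroup _ hp hpd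
    have : p = q := h1 p q hp hq hpπ hqπ hple hqd
    subst this
    exact P.not_dvd_index hpd

/-- a Hall `π`-subgroup of the alternating group, `2 ∈ π`, lies in a Hall `π`-subgroup of the
symmetric group -/
theorem alt_hall_le (M : Subgroup (Perm α)) (hM : IsPiHallOf π M (alternatingGroup α))
    (h2π : (2 : ℕ) ∈ π) : ∃ X : Subgroup (Perm α), IsPiHall π X ∧ M ≤ X := by
  by_cases hall : AllIn π (Fintype.card α)
  · exact ⟨⊤, isPiHall_top_of_allIn hall, le_top⟩
  by_cases h1 : AtMostOne π (Fintype.card α)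
  · by_cases h2d : 2 ≤ Fintype.card α
    · have : Fact (2 : ℕ).Prime := ⟨Nat.prime_two⟩
      have hM2 : IsPGroup 2 M := by
        have hpos : Nat.card M ≠ 0 := Nat.card_pos.ne'
        have := Nat.eq_prime_pow_of_unique_prime_dvd hpos (p := 2) (fun {d} hd hdd =>
          h1 d 2 hd Nat.prime_two (hM.2.1 d hd hdd) h2π
            (prime_le_of_dvd_card_perm_subgroup M hd hdd) h2d)
        exact IsPGroup.of_card this
      obtain ⟨P, hP⟩ := hM2.exists_le_sylow
      exact ⟨P, isPiHall_sylow_of_atMostOne h2π h2d h1 P, hP⟩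
    · exfalso
      apply hall
      intro r hr hrd
      have := hr.two_le
      omega
  · exact alt_hall_main M hM h2π h1 hall

/-- **Every Hall subgroup of the alternating group is the intersection of the alternating group
with a Hall subgroup of the symmetric group.** -/
theorem alt_hall_extends (M : Subgroup (Perm α)) (hM : IsPiHallOf π M (alternatingGroup α)) :
    ∃ M₀ : Subgroup (Perm α), IsPiHall π M₀ ∧ M = M₀ ⊓ alternatingGroup α := by
  by_cases h2π : (2 : ℕ) ∈ π
  · obtain ⟨X, hX, hle⟩ := alt_hall_le M hM h2π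
    exact ⟨X, hX, eq_inf_of_isPiHallOf_le hM hX.1 hle⟩
  · refine ⟨M, ⟨hM.2.1, fun p hp hpπ => ?_⟩, (inf_eq_left.mpr hM.1).symm⟩
    refine not_dvd_index_of_isPiHallOf hM hp hpπ ?_
    rintro rfl
    exact h2π hpπ

end

/-- the subgroup form, for subgroups of the alternating group taken as a group -/
theorem alt_hall_iff {α : Type u} [Fintype α] [DecidableEq α] {π : Set ℕ}
    (M : Subgroup ↥(alternatingGroup α)) :
    IsPiHall π M ↔ ∃ M₀ : Subgroup (Perm α),
      IsPiHall π M₀ ∧ M = M₀.subgroupOf (alternatingGroup α) := by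
  constructor
  · intro hM
    have h1 := (isPiHall_iff_isPiHallOf_map (alternatingGroup α) M).mp hM
    obtain ⟨M₀, hM₀, he⟩ := alt_hall_extends _ h1
    refine ⟨M₀, hM₀, ?_⟩
    have h2 : (M.map (alternatingGroup α).subtype).subgroupOf (alternatingGroup α) = M := by
      ext x
      rw [mem_subgroupOf]
      constructor
      · rintro ⟨y, hy, hyx⟩
        have : y = x := Subtype.ext hyx
        exact this ▸ hy
      · intro hx
        exact ⟨x, hx, rfl⟩
    rw [← h2, he, Subgroup.inf_subgroupOf_right]
  · rintro ⟨M₀, hM₀, rfl⟩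
    exact isPiHall_inf_normal hM₀ (alternatingGroup α)

end Cfsg.Agent.Helper30.HallSym
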