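import Mathlib
import Cfsg.Agent.Helper30.HallSym.Defs
import Cfsg.Agent.Helper30.HallSym.Conj

/-!
# The full Sylow analogue `D_π` in a finite group: general lemmas
-/

set_option autoImplicit false

open Subgroup Cfsg
open scoped Pointwise

namespace Cfsg.Agent.Helper30.HallSym

universe u

variable {G : Type u} [Group G] [Finite G] {π : Set ℕ}

omit [Finite G] in
theorem isPiSubgroup_bot : IsPiSubgroup π (⊥ : Subgroup G) := by
  intro p hp hpd
  rw [Subgroup.card_bot] at hpd
  exact absurd (Nat.dvd_one.mp hpd) hp.one_lt.ne'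

theorem exists_maximal_piSubgroup_ge {X : Subgroup G} (hX : IsPiSubgroup π X) :
    ∃ K : Subgroup G, Maximal (IsPiSubgroup π) K ∧ X ≤ K := by
  obtain ⟨K, hXK, hK⟩ := Finite.exists_le_maximal (p := IsPiSubgroup (G := G) π) hX
  exact ⟨K, hK, hXK⟩

theorem isPiSubgroup_sylow {p : ℕ} [Fact p.Prime] (hpπ : p ∈ π) (P : Sylow p G) :
    IsPiSubgroup π (P : Subgroup G) := by
  intro r hr hrd
  obtain ⟨k, hk⟩ := IsPGroup.iff_card.mp P.isPGroup'
  rw [hk] at hrd
  have := (Nat.prime_dvd_prime_iff_eq hr Fact.out).mp (hr.dvd_of_dvd_pow hrd)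
  rw [this]; exact hpπ

/-- under `D_π` every maximal `π`-subgroup is a Hall `π`-subgroup -/
theorem isPiHall_of_maximal (hD : IsDPiGroup π G) {H : Subgroup G}
    (hH : Maximal (IsPiSubgroup π) H) : IsPiHall π H := by
  refine ⟨hH.prop, fun p hp hpπ hpd => ?_⟩
  have : Fact p.Prime := ⟨hp⟩
  obtain ⟨P⟩ : Nonempty (Sylow p G) := inferInstance
  obtain ⟨K, hK, hPK⟩ := exists_maximal_piSubgroup_ge (isPiSubgroup_sylow hpπ P)
  obtain ⟨g, rfl⟩ := hD H K hH hK
  have h1 : (H.map (MulAut.conj g).toMonoidHom).index = H.index :=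
    Subgroup.index_map_equiv H (MulAut.conj g)
  have h2 : (H.map (MulAut.conj g).toMonoidHom).index ∣ (P : Subgroup G).index :=
    Subgroup.index_dvd_of_le hPK
  rw [h1] at h2
  exact P.not_dvd_index (hpd.trans h2)

/-- if at most one prime of `π` divides `|G|`, every maximal `π`-subgroup is Hall -/
theorem isPiHall_of_maximal_of_unique_prime
    (h1 : ∀ r s : ℕ, r.Prime → s.Prime → r ∈ π → s ∈ π → r ∣ Nat.card G → s ∣ Nat.card G → r = s)
    {L : Subgroup G} (hL : Maximal (IsPiSubgroup π) L) : IsPiHall π L := by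
  refine ⟨hL.prop, fun p hp hpπ hpd => ?_⟩
  have : Fact p.Prime := ⟨hp⟩
  have hpG : p ∣ Nat.card G := hpd.trans (Subgroup.index_dvd_card L)
  have hLp : IsPGroup p L := by
    have hpos : Nat.card L ≠ 0 := Nat.card_pos.ne'
    have := Nat.eq_prime_pow_of_unique_prime_dvd hpos (p := p) (fun {d} hd hdd =>
      h1 d p hd hp (hL.prop d hd hdd) hpπ (hdd.trans (Subgroup.card_subgroup_dvd_card L)) hpG)
    exact IsPGroup.of_card this
  obtain ⟨P, hP⟩ := hLp.exists_le_sylow
  have hPL : (P : Subgroup G) ≤ L := hL.le_of_ge (isPiSubgroup_sylow hpπ P) hP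
  have : L = P := le_antisymm hP hPL
  rw [this] at hpd
  exact P.not_dvd_index hpd

theorem dpi_of_unique_prime
    (h1 : ∀ r s : ℕ, r.Prime → s.Prime → r ∈ π → s ∈ π → r ∣ Nat.card G → s ∣ Nat.card G → r = s) :
    IsDPiGroup π G := fun _ _ hH hK =>
  hall_conj_of_unique_prime h1 (isPiHall_of_maximal_of_unique_prime h1 hH)
    (isPiHall_of_maximal_of_unique_prime h1 hK)

omit [Finite G] in
theorem dpi_of_all (h : ∀ r : ℕ, r.Prime → r ∣ Nat.card G → r ∈ π) : IsDPiGroup π G := by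
  have key : ∀ L : Subgroup G, Maximal (IsPiSubgroup π) L → L = ⊤ := by
    intro L hL
    rw [eq_top_iff]
    refine hL.le_of_ge (fun p hp hpd => h p hp (hpd.trans (Subgroup.card_subgroup_dvd_card _))) le_top
  intro H K hH hK
  rw [key H hH, key K hK]
  exact ⟨1, (map_conj_one _).symm⟩

end Cfsg.Agent.Helper30.HallSym
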