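import Mathlib
import Cfsg.Agent.Helper30.HallSym.Defs
import Cfsg.Agent.Helper97.HallSymD1
import Cfsg.Agent.Helper50.HallSymD2
import Cfsg.Agent.Helper48.HallSymD3

/-!
# Three explicit subgroups of alternating groups, under one namespace

Every statement here is proved in a file of another seat (board post 6830); this file only
collects them with the signatures the assembly uses.
-/

set_option autoImplicit false

open Equiv Equiv.Perm MulAction Subgroup Cfsg Cfsg.Agent.Helper30.HallSym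
open scoped Nat Pointwise

namespace Cfsg.Agent.Helper30.HallSym.PcD

theorem exists_subgroup_no_fixed_point (n : ℕ) (hn : 5 ≤ n) :
    ∃ X : Subgroup (Perm (Fin n)), X ≤ alternatingGroup (Fin n) ∧
      (∀ p : ℕ, p.Prime → p ∣ Nat.card X → p ≤ n - 2) ∧
      ∀ a : Fin n, ¬ X ≤ stabilizer (Perm (Fin n)) a :=
  Cfsg.Agent.Helper97.HallSym.exists_subgroup_no_fixed_point n hn

theorem exists_subgroup_no_three_set :
    ∃ X : Subgroup (Perm (Fin 7)), X ≤ alternatingGroup (Fin 7) ∧
      (∀ p : ℕ, p.Prime → p ∣ Nat.card X → p = 2 ∨ p = 3) ∧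
      ∀ s : Set (Fin 7), s.ncard = 3 → ¬ X ≤ stabilizer (Perm (Fin 7)) s :=
  Cfsg.Agent.Helper50.HallSym.exists_subgroup_no_three_set

theorem exists_subgroup_no_bipartition :
    ∃ X : Subgroup (Perm (Fin 8)), X ≤ alternatingGroup (Fin 8) ∧
      (∀ p : ℕ, p.Prime → p ∣ Nat.card X → p = 2 ∨ p = 3) ∧
      ∀ s : Set (Fin 8), s.ncard = 4 →
        ¬ X ≤ stabilizer (Perm (Fin 8)) ({s, sᶜ} : Set (Set (Fin 8))) :=
  Cfsg.Agent.Helper48.HallSym.exists_subgroup_no_bipartition

end Cfsg.Agent.Helper30.HallSym.PcD
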