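import Mathlib
import Cfsg.Agent.Helper30.HallSym.Defs
import Cfsg.Agent.Helper30.HallSym.Class
import Cfsg.Agent.Helper30.HallSym.AltExt
import Cfsg.Agent.Helper30.HallSym.Conj

/-!
# Conjugacy of the Hall subgroups of the symmetric and alternating groups
-/

set_option autoImplicit false
set_option linter.unusedSectionVars false

open Equiv Equiv.Perm MulAction Subgroup Cfsg
open scoped Nat Pointwise

namespace Cfsg.Agent.Helper30.HallSym
open Pc PcA

universe u

variable {α : Type u} [Fintype α] [DecidableEq α] {π : Set ℕ}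

/-- two primes `≤ d` in `π` -/
theorem two_primes_of_not_atMostOne {d : ℕ} (h1 : ¬ AtMostOne π d) :
    ∃ r s : ℕ, r.Prime ∧ s.Prime ∧ r ∈ π ∧ s ∈ π ∧ r ≤ d ∧ s ≤ d ∧ r ≠ s := by
  unfold AtMostOne at h1
  push Not at h1
  obtain ⟨r, s, h⟩ := h1
  exact ⟨r, s, h⟩

theorem three_le_of_not_atMostOne {d : ℕ} (h1 : ¬ AtMostOne π d) : 3 ≤ d := by
  obtain ⟨r, s, hr, hs, -, -, hrd, hsd, hne⟩ := two_primes_of_not_atMostOne h1
  have := hr.two_le
  have := hs.two_le
  omega

/-- **Any two Hall `π`-subgroups of the symmetric group are conjugate.** -/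
theorem perm_hall_conj {H K : Subgroup (Perm α)} (hH : IsPiHall π H) (hK : IsPiHall π K) :
    ∃ g : Perm α, K = H.map (MulAut.conj g).toMonoidHom := by
  by_cases h1 : AtMostOne π (Fintype.card α)
  · refine hall_conj_of_unique_prime (fun r s hr hs hrπ hsπ hrd hsd => ?_) hH hK
    exact h1 r s hr hs hrπ hsπ (prime_le_of_dvd_card_perm hr hrd) (prime_le_of_dvd_card_perm hs hsd)
  by_cases hall : AllIn π (Fintype.card α)
  · have hT := isPiHall_top_of_allIn (α := α) hall
    rw [isPiHall_eq_of_le hH hT le_top, isPiHall_eq_of_le hK hT le_top]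
    exact ⟨1, (map_conj_one _).symm⟩
  rcases hall_classification H hH h1 hall with ⟨hp, hiff, a, rfl⟩ | ⟨h7, h23, s, hs, rfl⟩ |
    ⟨h8, h23, s, hs, rfl⟩
  · rcases hall_classification K hK h1 hall with ⟨-, -, b, rfl⟩ | ⟨h7, h23, -⟩ | ⟨h8, -⟩
    · refine ⟨swap a b, ?_⟩
      rw [← MulAction.stabilizer_smul_eq_stabilizer_map_conj]
      congr 1
      simp
    · exfalso
      have h5 : (5 : ℕ) ∈ π := (hiff 5 (by norm_num) (by omega)).mpr (by omega)
      have := (h23 5 (by norm_num) (by norm_num)).mp h5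
      omega
    · rw [h8] at hp
      exact absurd hp (by norm_num)
  · rcases hall_classification K hK h1 hall with ⟨-, hiff, -⟩ | ⟨-, -, t, ht, rfl⟩ | ⟨h8, -⟩
    · exfalso
      have h5 : (5 : ℕ) ∈ π := (hiff 5 (by norm_num) (by omega)).mpr (by omega)
      have := (h23 5 (by norm_num) (by norm_num)).mp h5
      omega
    · exact stabilizer_set_conj s t (by rw [hs, ht])
    · omega
  · rcases hall_classification K hK h1 hall with ⟨hp, -⟩ | ⟨h7, -⟩ | ⟨-, -, t, ht, rfl⟩
    · rw [h8] at hp
      exact absurd hp (by norm_num)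
    · omega
    · exact stabilizer_bipartition_conj s t (by rw [hs, ht])

/-- with two primes of `π` up to the degree, a Hall subgroup forces `2 ∈ π` -/
theorem two_mem_of_hall {H : Subgroup (Perm α)} (hH : IsPiHall π H)
    (h1 : ¬ AtMostOne π (Fintype.card α)) : (2 : ℕ) ∈ π := by
  have h3 := three_le_of_not_atMostOne h1
  by_contra h2π
  have hall : ¬ AllIn π (Fintype.card α) := fun h => h2π (h 2 Nat.prime_two (by omega))
  rcases hall_classification H hH h1 hall with ⟨-, hiff, -⟩ | ⟨-, h23, -⟩ | ⟨-, h23, -⟩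
  · exact h2π ((hiff 2 Nat.prime_two (by omega)).mpr (by omega))
  · exact h2π ((h23 2 Nat.prime_two (by norm_num)).mpr (Or.inl rfl))
  · exact h2π ((h23 2 Nat.prime_two (by norm_num)).mpr (Or.inl rfl))

/-- a Hall `π`-subgroup of the symmetric group with `2 ∈ π` has an odd element -/
theorem exists_odd_of_hall [Nontrivial α] {H : Subgroup (Perm α)} (hH : IsPiHall π H)
    (h2π : (2 : ℕ) ∈ π) : ∃ t ∈ H, t ∉ alternatingGroup α := by
  by_contra hcon
  push Not at hcon
  have hle : H ≤ alternatingGroup α := hcon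
  apply hH.2 2 Nat.prime_two h2π
  rw [← Subgroup.relIndex_mul_index hle, alternatingGroup.index_eq_two]
  exact dvd_mul_left 2 _

/-- **Any two Hall `π`-subgroups of the alternating group are conjugate in it.** -/
theorem alt_hall_conj {M M' : Subgroup ↥(alternatingGroup α)} (hM : IsPiHall π M)
    (hM' : IsPiHall π M') :
    ∃ g : ↥(alternatingGroup α), M' = M.map (MulAut.conj g).toMonoidHom := by
  by_cases h1 : AtMostOne π (Fintype.card α)
  · refine hall_conj_of_unique_prime (fun r s hr hs hrπ hsπ hrd hsd => ?_) hM hM'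
    exact h1 r s hr hs hrπ hsπ
      (prime_le_of_dvd_card_perm_subgroup _ hr hrd) (prime_le_of_dvd_card_perm_subgroup _ hs hsd)
  obtain ⟨M₀, hM₀, rfl⟩ := (alt_hall_iff M).mp hM
  obtain ⟨M₀', hM₀', rfl⟩ := (alt_hall_iff M').mp hM'
  have h2π := two_mem_of_hall hM₀ h1
  have h3 := three_le_of_not_atMostOne h1
  have hnt : Nontrivial α := Fintype.one_lt_card_iff_nontrivial.mp (by omega)
  obtain ⟨g, rfl⟩ := perm_hall_conj hM₀ hM₀'
  by_cases hg : g ∈ alternatingGroup α
  · exact ⟨⟨g, hg⟩, subgroupOf_map_conj _ _ g hg⟩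
  · obtain ⟨t, htM, htA⟩ := exists_odd_of_hall hM₀ h2π
    have hgt : g * t ∈ alternatingGroup α := by
      rw [mem_alternatingGroup] at hg htA ⊢
      rw [map_mul]
      rcases Int.units_eq_one_or (sign g) with h | h
      · exact absurd h hg
      · rcases Int.units_eq_one_or (sign t) with h' | h'
        · exact absurd h' htA
        · rw [h, h']; decide
    refine ⟨⟨g * t, hgt⟩, ?_⟩
    rw [← map_conj_mul M₀ g t htM]
    exact subgroupOf_map_conj _ _ (g * t) hgt

end Cfsg.Agent.Helper30.HallSym
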