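import Mathlib
import Cfsg.Agent.Helper30.HallSym.Defs
import Cfsg.Agent.Helper30.HallSym.Class
import Cfsg.Agent.Helper30.HallSym.AltExt
import Cfsg.Agent.Helper30.HallSym.SymConj
import Cfsg.Agent.Helper30.HallSym.DPi
import Cfsg.Agent.Helper30.HallSym.PiecesD

/-!
# `D_π` fails for the alternating groups outside the two trivial cases
-/

set_option autoImplicit false
set_option linter.unusedSectionVars false

open Equiv Equiv.Perm MulAction Subgroup Cfsg
open scoped Nat Pointwise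

namespace Cfsg.Agent.Helper30.HallSym
open Pc PcA PcD

universe u

/-- a `π`-subgroup of the symmetric group lying in the alternating group, seen inside the latter -/
theorem isPiSubgroup_subgroupOf_alt {n : ℕ} {π : Set ℕ} (X : Subgroup (Perm (Fin n)))
    (hX : ∀ p : ℕ, p.Prime → p ∣ Nat.card X → p ∈ π) :
    IsPiSubgroup π (X.subgroupOf (alternatingGroup (Fin n))) := by
  intro p hp hpd
  refine hX p hp (hpd.trans ?_)
  have h1 : Nat.card ↥(X.subgroupOf (alternatingGroup (Fin n))) =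
      Nat.card ↥(X ⊓ alternatingGroup (Fin n)) := by
    rw [← Subgroup.inf_subgroupOf_right X (alternatingGroup (Fin n))]
    exact Nat.card_congr (Subgroup.subgroupOfEquivOfLe inf_le_right).toEquiv
  rw [h1]
  exact Subgroup.card_dvd_of_le inf_le_left

/-- the heart: under `D_π` in `A_n`, `n ≥ 5`, a `π`-subgroup `X ≤ A_n` of `S_n` lies in a Hall
`π`-subgroup of `S_n` -/
theorem le_hall_of_dpi {n : ℕ} {π : Set ℕ}
    (hD : IsDPiGroup π ↥(alternatingGroup (Fin n))) (X : Subgroup (Perm (Fin n)))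
    (hXA : X ≤ alternatingGroup (Fin n)) (hX : ∀ p : ℕ, p.Prime → p ∣ Nat.card X → p ∈ π) :
    ∃ M₁ : Subgroup (Perm (Fin n)), IsPiHall π M₁ ∧ X ≤ M₁ := by
  obtain ⟨K, hK, hXK⟩ := exists_maximal_piSubgroup_ge (isPiSubgroup_subgroupOf_alt X hX)
  obtain ⟨M₁, hM₁, rfl⟩ := (alt_hall_iff K).mp (isPiHall_of_maximal hD hK)
  refine ⟨M₁, hM₁, fun x hx => ?_⟩
  have : (⟨x, hXA hx⟩ : alternatingGroup (Fin n)) ∈ X.subgroupOf (alternatingGroup (Fin n)) := by
    rw [mem_subgroupOf]; exact hx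
  have := hXK this
  rw [mem_subgroupOf] at this
  exact this

theorem alt_not_dpi {n : ℕ} (hn : 5 ≤ n) {π : Set ℕ} (h1 : ¬ AtMostOne π n) (hall : ¬ AllIn π n) :
    ¬ IsDPiGroup π ↥(alternatingGroup (Fin n)) := by
  intro hD
  have hcard : Fintype.card (Fin n) = n := Fintype.card_fin n
  have h1' : ¬ AtMostOne π (Fintype.card (Fin n)) := by rwa [hcard]
  have hall' : ¬ AllIn π (Fintype.card (Fin n)) := by rwa [hcard]
  -- some Hall subgroup exists; it fixes the shape
  obtain ⟨M₀, hM₀, -⟩ := le_hall_of_dpi hD ⊥ bot_le (fun p hp hpd => by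
    rw [Subgroup.card_bot] at hpd
    exact absurd (Nat.dvd_one.mp hpd) hp.one_lt.ne')
  rcases hall_classification M₀ hM₀ h1' hall' with ⟨hp, hiff, -⟩ | ⟨h7, h23, -⟩ | ⟨h8, h23, -⟩
  · rw [hcard] at hp hiff
    obtain ⟨X, hXA, hXπ, hXfix⟩ := exists_subgroup_no_fixed_point n hn
    obtain ⟨M₁, hM₁, hXM⟩ := le_hall_of_dpi hD X hXA (fun p hp' hpd =>
      (hiff p hp' (by have := hXπ p hp' hpd; omega)).mpr (by have := hXπ p hp' hpd; omega))
    rcases hall_classification M₁ hM₁ h1' hall' with ⟨-, -, a, rfl⟩ | ⟨h7, h23, -⟩ | ⟨h8, -⟩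
    · exact hXfix a hXM
    · rw [hcard] at h7
      subst h7
      have h5 : (5 : ℕ) ∈ π := (hiff 5 (by norm_num) (by omega)).mpr (by omega)
      have := (h23 5 (by norm_num) (by norm_num)).mp h5
      omega
    · rw [hcard] at h8
      rw [h8] at hp
      exact absurd hp (by norm_num)
  · rw [hcard] at h7
    subst h7
    obtain ⟨X, hXA, hXπ, hXfix⟩ := exists_subgroup_no_three_set
    obtain ⟨M₁, hM₁, hXM⟩ := le_hall_of_dpi hD X hXA (fun p hp' hpd =>
      (h23 p hp' (by rcases hXπ p hp' hpd with h | h <;> omega)).mpr (hXπ p hp' hpd))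
    rcases hall_classification M₁ hM₁ h1' hall' with ⟨-, hiff, -⟩ | ⟨-, -, s, hs, rfl⟩ | ⟨h8, -⟩
    · have h5 : (5 : ℕ) ∈ π := (hiff 5 (by norm_num) (by simp)).mpr (by simp)
      have := (h23 5 (by norm_num) (by norm_num)).mp h5
      omega
    · exact hXfix s hs hXM
    · simp at h8
  · rw [hcard] at h8
    subst h8
    obtain ⟨X, hXA, hXπ, hXfix⟩ := exists_subgroup_no_bipartition
    obtain ⟨M₁, hM₁, hXM⟩ := le_hall_of_dpi hD X hXA (fun p hp' hpd =>
      (h23 p hp' (by rcases hXπ p hp' hpd with h | h <;> omega)).mpr (hXπ p hp' hpd))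
    rcases hall_classification M₁ hM₁ h1' hall' with ⟨hp, -⟩ | ⟨h7, -⟩ | ⟨-, -, s, hs, rfl⟩
    · simp at hp
      exact absurd hp (by norm_num)
    · simp at h7
    · exact hXfix s hs hXM

end Cfsg.Agent.Helper30.HallSym
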